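/-
Charts of orthogonal type: separation of points, transport along bijections, the group generated.

Main results (namespace `Cfsg.Agent.FischerMain`, `n ≥ 5`):
* `Chart3.exists_link`, `Chart3.exists_split`, `Chart3.exists_nonc`, `Chart3.exists_perp`;
* `Chart3.push` : charts along a map injective on the set;
* `Chart3.projRefl` : the group generated by the set, modulo its centre, is the projective reflection group.
-/
import Cfsg.Agent.Lib.FischerMain.Defs
import Cfsg.Agent.Lib.ThreeTrans.ReflThree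
import Cfsg.Agent.Lib.TransCentFi22.Reflections

set_option autoImplicit false

namespace Cfsg.Agent.FischerMain

open Cfsg Cfsg.Agent.Orth Cfsg.Agent.ThreeTrans
open QuadraticMap (polar)

variable {G H : Type*} [Group G] [Group H] {X : Set G} {n : ℕ}
  {Q : QuadraticForm (ZMod 3) (Fin n → ZMod 3)} {c : ZMod 3} {ψ : (Fin n → ZMod 3) → G}

theorem sq_z3 : ∀ {c : ZMod 3}, c ≠ 0 → c * c = 1 := fun {c} hc => zmod_three_sq c hc

theorem pm_z3 : ∀ t : ZMod 3, t ≠ 0 → t = 1 ∨ t = -1 := by decide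

theorem three_z3 : (3 : ZMod 3) = 0 := by decide

theorem rv_eq {u : Fin n → ZMod 3} (hu : Q u = c) (v : Fin n → ZMod 3) :
    rv Q c u v = ap (refl Q u) v := by rw [rv, refl_ap, hu]

theorem rv_mem {u v : Fin n → ZMod 3} (hu : Q u = c) (hv : Q v = c) : Q (rv Q c u v) = c := by
  rw [rv_eq hu, Q_ap, hv]

theorem pm_of_refl_eq (hc : c ≠ 0) {u v : Fin n → ZMod 3} (hu : Q u = c) (hv : Q v = c)
    (h : refl Q u = refl Q v) : v = u ∨ v = -u := by
  have h1 : ap (refl Q v) u = -u := by rw [← h, refl_ap_self Q (hu ▸ hc)]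
  rw [refl_ap, hv, sub_eq_iff_eq_add] at h1
  generalize hs : c⁻¹ * polar ⇑Q v u = s at h1
  have e : (2 : ZMod 3) • u = s • v := by
    rw [two_smul]; nth_rewrite 1 [h1]; abel
  have e' : u = (2 * s) • v := by
    rw [← smul_smul, ← e, smul_smul, show (2 : ZMod 3) * 2 = 1 by decide, one_smul]
  have ht : (2 * s) ≠ 0 := fun h0 => hc (by rw [← hu, e', h0, zero_smul, QuadraticMap.map_zero])
  rcases pm_z3 _ ht with h0 | h0 <;> rw [h0] at e'
  · exact Or.inl (by rw [e', one_smul])
  · exact Or.inr (by rw [e']; simp)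

theorem refl_neg_eq (u : Fin n → ZMod 3) : refl Q (-u) = refl Q u := by
  rw [← neg_one_smul (ZMod 3) u]
  exact refl_smul Q (by decide) u

theorem exists_perp_norm (hQ : Q.polarBilin.Nondegenerate) (hn : 4 ≤ n) (hc : c ≠ 0)
    {u w : Fin n → ZMod 3} (hu : Q u = c) (hw : Q w = c) (huw : polar ⇑Q u w = 0) (d : ZMod 3) :
    ∃ y, polar ⇑Q u y = 0 ∧ polar ⇑Q w y = 0 ∧ Q y = d := by
  set W := LinearMap.ker ((Q.polarBilin u).prod (Q.polarBilin w)) with hWdef
  have hmem : ∀ x, x ∈ W ↔ polar ⇑Q u x = 0 ∧ polar ⇑Q w x = 0 := fun x => by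
    rw [hWdef, LinearMap.mem_ker]
    exact Prod.mk_eq_zero
  have hcc := sq_z3 hc
  have hW : ∀ x ∈ W, x ≠ 0 → ∃ y ∈ W, polar ⇑Q x y ≠ 0 := by
    intro x hx hx0
    obtain ⟨y, hy⟩ := exists_polar_ne hQ hx0
    refine ⟨y + (c * polar ⇑Q u y) • u + (c * polar ⇑Q w y) • w, (hmem _).2 ⟨?_, ?_⟩, ?_⟩
    · rw [pl_add_right, pl_add_right, pl_smul_right, pl_smul_right, pl_self, hu, huw]
      linear_combination (2 * polar ⇑Q u y) * hcc + (polar ⇑Q u y) * three_z3
    · rw [pl_add_right, pl_add_right, pl_smul_right, pl_smul_right, pl_self, hw, pl_comm Q w u, huw]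
      linear_combination (2 * polar ⇑Q w y) * hcc + (polar ⇑Q w y) * three_z3
    · rw [pl_add_right, pl_add_right, pl_smul_right, pl_smul_right, pl_comm Q x u, pl_comm Q x w,
        ((hmem x).1 hx).1, ((hmem x).1 hx).2, mul_zero, mul_zero, add_zero, add_zero]
      exact hy
  obtain ⟨y, hy, hQy⟩ := exists_Q_eq_in W hW (by
    have h1 := LinearMap.finrank_range_add_finrank_ker ((Q.polarBilin u).prod (Q.polarBilin w))
    have h2 := Submodule.finrank_le (LinearMap.range ((Q.polarBilin u).prod (Q.polarBilin w)))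
    rw [finrank_space, Fintype.card_fin] at h1
    rw [Module.finrank_prod, Module.finrank_self] at h2
    show 2 ≤ Module.finrank (ZMod 3) ↥W
    rw [hWdef]
    omega) d
  exact ⟨y, ((hmem y).1 hy).1, ((hmem y).1 hy).2, hQy⟩

namespace Chart3

variable (hch : Chart3 X Q c ψ)
include hch

theorem not_comm_pl {u v : Fin n → ZMod 3} (hu : Q u = c) (hv : Q v = c) (h : polar ⇑Q u v ≠ 0)
    (hne : v ≠ u ∧ v ≠ -u) : ¬ Commute (ψ u) (ψ v) := fun hcm => by
  rcases (hch.comm u v hu hv).1 hcm with e | e | e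
  exacts [h e, hne.1 e, hne.2 e]

/-- A second member commuting with a given one. -/
theorem exists_perp (hn : 3 ≤ n) {a : G} (ha : a ∈ X) : ∃ b ∈ X, b ≠ a ∧ Commute a b := by
  obtain ⟨u, hu, rfl⟩ := hch.surj a ha
  obtain ⟨w, huw, hw⟩ := exists_orth_norm hch.nd (by rwa [Fintype.card_fin]) (hu ▸ hch.c_ne : Q u ≠ 0) c
  have hne : w ≠ u ∧ w ≠ -u := by
    constructor <;> rintro rfl
    · rw [pl_self, hu] at huw
      exact hch.c_ne ((mul_eq_zero.1 huw).resolve_left (by decide))
    · rw [← neg_one_smul (ZMod 3) u, pl_smul_right, pl_self, hu] at huw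
      exact hch.c_ne ((mul_eq_zero.1 ((mul_eq_zero.1 huw).resolve_left (by decide))).resolve_left (by decide))
  refine ⟨ψ w, hch.mem w hw, fun e => ?_, (hch.comm u w hu hw).2 (Or.inl huw)⟩
  rcases (hch.eq_iff u w hu hw).1 e.symm with e | e
  exacts [hne.1 e, hne.2 e]

/-- Two commuting members have a third one commuting with neither. -/
theorem exists_link (hn : 4 ≤ n) {a b : G} (ha : a ∈ X) (hb : b ∈ X) (hab : Commute a b) (hne : a ≠ b) :
    ∃ s ∈ X, ¬ Commute s a ∧ ¬ Commute s b := by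
  obtain ⟨u, hu, rfl⟩ := hch.surj a ha
  obtain ⟨w, hw, rfl⟩ := hch.surj b hb
  have huw : polar ⇑Q u w = 0 := by
    rcases (hch.comm u w hu hw).1 hab with e | e
    · exact e
    · exact absurd ((hch.eq_iff u w hu hw).2 e) hne
  have hc := hch.c_ne
  obtain ⟨r, hur, hwr, hr⟩ := exists_perp_norm hch.nd hn hc hu hw huw (-c)
  set s := u + w + r with hs
  have hQs : Q s = c := by
    rw [hs, Q_add, Q_add, pl_add_left, hu, hw, huw, hr, hur, hwr]; ring
  have hBu : polar ⇑Q u s = 2 * c := by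
    rw [hs, pl_add_right, pl_add_right, pl_self, hu, huw, hur]; ring
  have hBw : polar ⇑Q w s = 2 * c := by
    rw [hs, pl_add_right, pl_add_right, pl_self, hw, pl_comm Q w u, huw, hwr]; ring
  have h2c : 2 * c ≠ 0 := mul_ne_zero (by decide) hc
  have key : ∀ p q : Fin n → ZMod 3, polar ⇑Q q p = 0 → polar ⇑Q q s = 2 * c → s ≠ p ∧ s ≠ -p := by
    intro p q hqp hqs
    constructor <;> intro e <;> rw [e] at hqs
    · exact h2c (hqs.symm.trans hqp)
    · rw [← neg_one_smul (ZMod 3) p, pl_smul_right, hqp, mul_zero] at hqs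
      exact h2c hqs.symm
  exact ⟨ψ s, hch.mem s hQs,
    fun e => hch.not_comm_pl hu hQs (hBu ▸ h2c) (key u w (by rw [pl_comm]; exact huw) hBw) e.symm,
    fun e => hch.not_comm_pl hw hQs (hBw ▸ h2c) (key w u huw hBu) e.symm⟩

/-- A member commuting with no other member except itself does not exist. -/
theorem exists_nonc (hn : 4 ≤ n) {a : G} (ha : a ∈ X) : ∃ b ∈ X, ¬ Commute a b := by
  obtain ⟨b, hb, hne, hc⟩ := hch.exists_perp (by omega) ha
  obtain ⟨s, hs, h1, -⟩ := hch.exists_link hn ha hb hc hne.symm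
  exact ⟨s, hs, fun e => h1 e.symm⟩

/-- Two non-commuting members are separated by a member commuting with the first only. -/
theorem exists_split {a b : G} (ha : a ∈ X) (hb : b ∈ X) (hab : ¬ Commute a b) :
    ∃ s ∈ X, s ≠ a ∧ Commute s a ∧ ¬ Commute s b := by
  obtain ⟨u, hu, rfl⟩ := hch.surj a ha
  obtain ⟨w, hw, rfl⟩ := hch.surj b hb
  have hc := hch.c_ne
  have hcc := sq_z3 hc
  set β := polar ⇑Q u w with hβdef
  have hβ : β ≠ 0 := fun e => hab ((hch.comm u w hu hw).2 (Or.inl e))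
  have hββ := sq_z3 hβ
  -- the singular projection of w
  set w' := w + (c * β) • u with hw'
  have hQw' : Q w' = 0 := by
    rw [hw', Q_add, Q_smul, pl_smul_right, pl_comm Q w u, ← hβdef, hu, hw]
    linear_combination (β * β * c) * hcc + 2 * c * hββ + c * three_z3
  have huw' : polar ⇑Q u w' = 0 := by
    rw [hw', pl_add_right, pl_smul_right, pl_self, ← hβdef, hu]
    linear_combination (2 * β) * hcc + β * three_z3
  have hne0 : w' ≠ 0 := by
    intro e
    have e' : w = (-(c * β)) • u := by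
      rw [hw', add_eq_zero_iff_eq_neg] at e; rw [e, neg_smul]
    rcases pm_z3 (-(c * β)) (neg_ne_zero.2 (mul_ne_zero hc hβ)) with h | h <;> rw [h] at e'
    · exact hab ((hch.comm u w hu hw).2 (Or.inr (Or.inl (by rw [e', one_smul]))))
    · exact hab ((hch.comm u w hu hw).2 (Or.inr (Or.inr (by rw [e']; simp))))
  obtain ⟨z, hz⟩ := exists_polar_ne hch.nd hne0
  set y := (polar ⇑Q w' z)⁻¹ • (z + (c * polar ⇑Q u z) • u) with hy
  have huy : polar ⇑Q u y = 0 := by
    rw [hy, pl_smul_right, pl_add_right, pl_smul_right, pl_self, hu]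
    linear_combination ((polar ⇑Q w' z)⁻¹ * (2 * polar ⇑Q u z)) * hcc
      + ((polar ⇑Q w' z)⁻¹ * polar ⇑Q u z) * three_z3
  have hwy : polar ⇑Q w' y = 1 := by
    rw [hy, pl_smul_right, pl_add_right, pl_smul_right, pl_comm Q w' u, huw', mul_zero, add_zero,
      inv_mul_cancel₀ hz]
  clear hy
  clear_value y
  set s := y + (c - Q y) • w' with hs
  have hQs : Q s = c := by
    rw [hs, Q_add, Q_smul, pl_smul_right, pl_comm Q y w', hwy, hQw']; ring
  have hus : polar ⇑Q u s = 0 := by
    rw [hs, pl_add_right, pl_smul_right, huy, huw', mul_zero, add_zero]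
  have hws : polar ⇑Q w' s = 1 := by
    rw [hs, pl_add_right, pl_smul_right, hwy, pl_self, hQw', mul_zero, mul_zero, add_zero]
  have hBws : polar ⇑Q w s = 1 := by
    rw [hw', pl_add_left, pl_smul_left, hus, mul_zero, add_zero] at hws
    exact hws
  have hsu : s ≠ u ∧ s ≠ -u := by
    constructor <;> intro e <;> rw [e] at hus
    · rw [pl_self, hu] at hus
      exact hc ((mul_eq_zero.1 hus).resolve_left (by decide))
    · rw [← neg_one_smul (ZMod 3) u, pl_smul_right, pl_self, hu] at hus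
      exact hc ((mul_eq_zero.1 ((mul_eq_zero.1 hus).resolve_left (by decide))).resolve_left (by decide))
  refine ⟨ψ s, hch.mem s hQs, fun e => ?_, (hch.comm s u hQs hu).2 (Or.inl (by rw [pl_comm]; exact hus)),
    fun e => ?_⟩
  · rcases (hch.eq_iff u s hu hQs).1 e.symm with e | e
    exacts [hsu.1 e, hsu.2 e]
  · rcases (hch.comm s w hQs hw).1 e with e | e | e
    · rw [pl_comm, hBws] at e; exact one_ne_zero e
    · exact hβ (by rw [hβdef, e]; exact hus)
    · exact hβ (by rw [hβdef, e, ← neg_one_smul (ZMod 3) s, pl_smul_right, hus, mul_zero])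

omit hch in
/-- Charts along a map injective on the set. -/
theorem push {Y : Set H} (hch : Chart3 X Q c ψ) (f : G → H) (hinj : Set.InjOn f X) (himg : f '' X = Y)
    (hcomm : ∀ a ∈ X, ∀ b ∈ X, (Commute (f a) (f b) ↔ Commute a b))
    (hconj : ∀ a ∈ X, ∀ b ∈ X, f (a * b * a) = f a * f b * f a) : Chart3 Y Q c (f ∘ ψ) := by
  subst himg
  refine ⟨hch.c_ne, hch.nd, fun v hv => ⟨_, hch.mem v hv, rfl⟩, ?_, fun u v hu hv => ?_,
    fun u v hu hv => ?_, fun u v hu hv => ?_⟩
  · rintro _ ⟨y, hy, rfl⟩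
    obtain ⟨v, hv, rfl⟩ := hch.surj y hy
    exact ⟨v, hv, rfl⟩
  · rw [← hch.eq_iff u v hu hv]
    exact ⟨fun e => hinj (hch.mem u hu) (hch.mem v hv) e, fun e => congrArg f e⟩
  · rw [← hch.comm u v hu hv]
    exact hcomm _ (hch.mem u hu) _ (hch.mem v hv)
  · simp only [Function.comp_apply]
    rw [← hch.conj u v hu hv, hconj _ (hch.mem u hu) _ (hch.mem v hv)]

/-- Charts move along conjugation. -/
theorem map_conj (g : G) : Chart3 (MulAut.conj g '' X) Q c (MulAut.conj g ∘ ψ) :=
  hch.push _ (MulAut.conj g).injective.injOn rfl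
    (fun _ _ _ _ => ⟨fun h => h.of_map (MulAut.conj g).injective, fun h => h.map (MulAut.conj g)⟩)
    fun a _ b _ => by rw [map_mul, map_mul]

/-- The group generated by the set, modulo its centre. -/
theorem projRefl [Finite G] (hsq : ∀ a ∈ X, a * a = 1) {d : ZMod 3} (hd : polarGramDet ⇑Q = d) :
    IsProjReflectionGroupModThree
      (↥(Subgroup.closure X) ⧸ Subgroup.center ↥(Subgroup.closure X)) n d c := by
  classical
  refine ⟨Q, hch.nd, hd, ?_⟩
  choose v hv hψ using fun i : ↥X => hch.surj i.1 i.2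
  let a : ↥X → ↥(Subgroup.closure X) := fun i => ⟨i.1, Subgroup.subset_closure i.2⟩
  let b : ↥X → ↥(reflectionSubgroup (⇑Q) c) := fun i => ⟨refl Q (v i), refl_mem_reflSub (hv i)⟩
  let t : ↥X → ↥X → ↥X := fun i j =>
    ⟨ψ (rv Q c (v i) (v j)), hch.mem _ (rv_mem (hv i) (hv j))⟩
  have ha : Function.Injective a := fun i j e =>
    Subtype.ext (congrArg (fun z : ↥(Subgroup.closure X) => (z : G)) e)
  have hpm : ∀ (i : ↥X) (w : Fin n → ZMod 3), Q w = c → ψ w = i.1 → refl Q w = refl Q (v i) := by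
    intro i w hw e
    rcases (hch.eq_iff (v i) w (hv i) hw).1 ((hψ i).trans e.symm) with h | h
    · rw [h]
    · rw [h, refl_neg_eq]
  have hb : Function.Injective b := by
    intro i j e
    apply Subtype.ext
    rw [← hψ i, ← hψ j]
    exact (hch.eq_iff _ _ (hv i) (hv j)).2
      (pm_of_refl_eq hch.c_ne (hv i) (hv j) (congrArg Subtype.val e))
  have hga : Subgroup.closure (Set.range a) = ⊤ := by
    have : Set.range a = {h : ↥(Subgroup.closure X) | (h : G) ∈ X} := by
      ext h
      exact ⟨by rintro ⟨i, rfl⟩; exact i.2, fun hh => ⟨⟨h, hh⟩, rfl⟩⟩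
    rw [this]
    exact Subgroup.closure_closure_coe_preimage (k := X)
  have hgb : Subgroup.closure (Set.range b) = ⊤ := by
    refine Subgroup.map_injective (Subgroup.subtype_injective _) ?_
    rw [MonoidHom.map_closure, ← MonoidHom.range_eq_map, Subgroup.range_subtype, ← Set.range_comp]
    conv_rhs => rw [Cfsg.reflectionSubgroup, ThreeTrans.reflectionsOfNorm_eq]
    congr 1
    ext g
    constructor
    · rintro ⟨i, rfl⟩
      exact ⟨v i, hv i, rfl⟩
    · rintro ⟨w, hw, rfl⟩
      exact ⟨⟨ψ w, hch.mem w hw⟩, (hpm _ w hw rfl).symm⟩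
  have h : ∀ i j, a i * a j * (a i)⁻¹ = a (t i j) := fun i j => by
    apply Subtype.ext
    show (i : G) * (j : G) * (i : G)⁻¹ = ψ (rv Q c (v i) (v j))
    rw [inv_eq_of_mul_eq_one_right (hsq _ i.2), ← hch.conj _ _ (hv i) (hv j), hψ i, hψ j]
  have h' : ∀ i j, b i * b j * (b i)⁻¹ = b (t i j) := fun i j => by
    apply Subtype.ext
    show refl Q (v i) * refl Q (v j) * (refl Q (v i))⁻¹ = refl Q (v (t i j))
    rw [conj_refl, ← rv_eq (hv i)]
    exact hpm (t i j) _ (rv_mem (hv i) (hv j)) rfl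
  have hT : ∀ i, Function.Bijective (t i) := fun i => by
    refine Finite.injective_iff_bijective.1 fun j k e => hb ?_
    have := (h' i j).trans ((congrArg b e).trans (h' i k).symm)
    exact mul_left_cancel (mul_right_cancel this)
  exact TransCentFi22.quotient_center_equiv a b ha hb hga hgb t h h' hT

end Chart3

end Cfsg.Agent.FischerMain
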