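/-
The basic inequality for the common neighbours of two non-commuting members, from the local counts.

Main results (namespace `Cfsg.Agent.FischerMain`):
* `LocalCounts D K l α β` : K neighbours, l common neighbours of commuting members, α (β) common neighbours
  of a member and two of its neighbours that commute (do not commute); `LocalCounts.of_point`;
* `LocalCounts.closed_bound` : the inequality for a part of the common neighbours closed under commuting;
* `LocalCounts.connected` : two such parts do not fit, so the common neighbours are connected.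
-/
import Cfsg.Agent.Lib.ThreeTrans.RankThree
import Mathlib.Algebra.Order.Chebyshev

set_option autoImplicit false

namespace Cfsg.Agent.FischerMain

open Cfsg Cfsg.Agent.ThreeTrans Relation

variable {G : Type*} [Group G] {D : Set G}

/-- The local counts of a class. -/
structure LocalCounts (D : Set G) (K l α β : ℕ) : Prop where
  deg : ∀ a ∈ D, (adj D a).ncard = K
  edge : ∀ a ∈ D, ∀ b ∈ adj D a, (adj D a ∩ adj D b).ncard = l
  triple : ∀ a ∈ D, ∀ x ∈ adj D a, ∀ y ∈ adj D a, x ≠ y → Commute x y →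
    (adj D a ∩ adj D x ∩ adj D y).ncard = α
  far : ∀ a ∈ D, ∀ x ∈ adj D a, ∀ y ∈ adj D a, ¬ Commute x y → (adj D a ∩ adj D x ∩ adj D y).ncard = β

theorem LocalCounts.of_point (hD : IsThreeTranspositionClass D) {a : G} (ha : a ∈ D) {K l α β : ℕ}
    (h1 : (adj D a).ncard = K) (h2 : ∀ b ∈ adj D a, (adj D a ∩ adj D b).ncard = l)
    (h3 : ∀ x ∈ adj D a, ∀ y ∈ adj D a, x ≠ y → Commute x y → (adj D a ∩ adj D x ∩ adj D y).ncard = α)
    (h4 : ∀ x ∈ adj D a, ∀ y ∈ adj D a, ¬ Commute x y → (adj D a ∩ adj D x ∩ adj D y).ncard = β) :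
    LocalCounts D K l α β := by
  have hconj := (group_of_class hD).2.1
  have pull : ∀ (g x : G), adj D (g * x * g⁻¹) = MulAut.conj g '' adj D x := fun g x => by
    rw [adj_conj_image hconj]; rfl
  refine ⟨fun b hb => ?_, fun b hb y hy => ?_, fun b hb y hy z hz hne hc => ?_,
    fun b hb y hy z hz hc => ?_⟩ <;> obtain ⟨g, rfl⟩ := class_conj hD ha hb <;> rw [pull] at *
  · rw [Set.ncard_image_of_injective _ (MulAut.conj g).injective, h1]
  · obtain ⟨y, hy, rfl⟩ := hy
    rw [MulAut.conj_apply, pull, ← Set.image_inter (MulAut.conj g).injective,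
      Set.ncard_image_of_injective _ (MulAut.conj g).injective, h2 y hy]
  · obtain ⟨y, hy, rfl⟩ := hy
    obtain ⟨z, hz, rfl⟩ := hz
    rw [MulAut.conj_apply, MulAut.conj_apply, pull, pull, ← Set.image_inter (MulAut.conj g).injective,
      ← Set.image_inter (MulAut.conj g).injective,
      Set.ncard_image_of_injective _ (MulAut.conj g).injective,
      h3 y hy z hz (fun e => hne (e ▸ rfl)) (hc.of_map (MulAut.conj g).injective)]
  · obtain ⟨y, hy, rfl⟩ := hy
    obtain ⟨z, hz, rfl⟩ := hz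
    rw [MulAut.conj_apply, MulAut.conj_apply, pull, pull, ← Set.image_inter (MulAut.conj g).injective,
      ← Set.image_inter (MulAut.conj g).injective,
      Set.ncard_image_of_injective _ (MulAut.conj g).injective,
      h4 y hy z hz fun e => hc (e.map (MulAut.conj g))]

namespace LocalCounts

variable [Finite G] {K l α β : ℕ} (L : LocalCounts D K l α β)
include L

/-- Each common neighbour commutes with `β` others. -/
theorem common_deg {a e q : G} (ha : a ∈ D) (he : e ∈ D) (hae : ¬ Commute a e)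
    (hq : q ∈ common D a e) : (common D a e ∩ adj D q).ncard = β := by
  rw [← L.far q hq.1.1 a ⟨ha, hq.1.2.1.symm, hq.1.2.2.symm⟩ e ⟨he, hq.2.2.1.symm, hq.2.2.2.symm⟩ hae]
  congr 1
  unfold common
  ext z
  simp only [Set.mem_inter_iff]
  tauto

/-- The inequality for a part of the common neighbours closed under commuting. -/
theorem closed_bound {a e : G} (ha : a ∈ D) (he : e ∈ D) (hae : ¬ Commute a e)
    {C : Set G} (hC : C ⊆ common D a e) (hne : C.Nonempty)
    (hcl : ∀ q ∈ C, ∀ r ∈ common D a e, Commute q r → r ∈ C) :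
    0 ≤ (l : ℤ) + β * α - β - 2 * β ^ 2 + C.ncard * β ∧
    ((l : ℤ) - β) ^ 2 * C.ncard ≤
      ((K : ℤ) - C.ncard) * ((l : ℤ) + β * α - β - 2 * β ^ 2 + C.ncard * β) := by
  classical
  have := Fintype.ofFinite G
  set A : Finset G := (adj D a).toFinset with hA
  set c : Finset G := C.toFinset with hc
  set R : G → G → Prop := fun p q => q ∈ adj D p with hR
  have adj_comm : ∀ {x y : G}, x ∈ D → y ∈ D → (y ∈ adj D x ↔ x ∈ adj D y) := fun hx hy =>
    ⟨fun h => ⟨hx, h.2.1.symm, h.2.2.symm⟩, fun h => ⟨hy, h.2.1.symm, h.2.2.symm⟩⟩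
  have hAc : A.card = K := by rw [hA, ← Set.ncard_eq_toFinset_card']; exact L.deg a ha
  have hcA : c ⊆ A := fun x hx => by
    simp only [hc, hA, Set.mem_toFinset] at hx ⊢
    exact (hC hx).1
  have hcn : c.card = C.ncard := by rw [hc, ← Set.ncard_eq_toFinset_card']
  have hin : ∀ p ∈ c, (c.filter (R p)).card = β := by
    intro p hp
    simp only [hc, Set.mem_toFinset] at hp
    rw [← Set.ncard_coe_finset, ← L.common_deg ha he hae (hC hp)]
    congr 1
    ext r
    simp only [hc, hR, Finset.coe_filter, Set.mem_toFinset, Set.mem_ofPred_eq, Set.mem_inter_iff]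
    exact ⟨fun h => ⟨hC h.1, h.2⟩, fun h => ⟨hcl p hp r h.1 h.2.2.2, h.2⟩⟩
  have hl : ∀ q ∈ c, (A.filter fun p => R p q).card = l := by
    intro q hq
    simp only [hc, Set.mem_toFinset] at hq
    rw [← Set.ncard_coe_finset, ← L.edge a ha q (hC hq).1]
    congr 1
    ext p
    simp only [hA, hR, Finset.coe_filter, Set.mem_toFinset, Set.mem_ofPred_eq, Set.mem_inter_iff]
    exact and_congr_right fun hp => adj_comm hp.1 (hC hq).1.1
  have htot : ∑ p ∈ A, (c.filter (R p)).card = l * c.card := by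
    calc ∑ p ∈ A, (c.filter (R p)).card = ∑ q ∈ c, (A.filter fun p => R p q).card := by
          simp only [Finset.card_filter]; exact Finset.sum_comm
      _ = l * c.card := by rw [Finset.sum_congr rfl hl, Finset.sum_const, smul_eq_mul, mul_comm]
  have hpair : ∀ q ∈ c, ∀ r ∈ c, (A.filter fun p => R p q ∧ R p r).card
      = if r = q then l else if R q r then α else β := by
    intro q hq r hr
    by_cases h1 : r = q
    · subst h1
      rw [if_pos rfl, ← hl r hr]
      congr 1
      exact Finset.filter_congr fun p _ => and_self_iff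
    rw [if_neg h1]
    simp only [hc, Set.mem_toFinset] at hq hr
    have hset : (↑(A.filter fun p => R p q ∧ R p r) : Set G) = adj D a ∩ adj D q ∩ adj D r := by
      ext p
      simp only [hA, hR, Finset.coe_filter, Set.mem_toFinset, Set.mem_ofPred_eq, Set.mem_inter_iff]
      refine ⟨fun h => ⟨⟨h.1, (adj_comm h.1.1 (hC hq).1.1).1 h.2.1⟩, (adj_comm h.1.1 (hC hr).1.1).1 h.2.2⟩,
        fun h => ⟨h.1.1, (adj_comm h.1.1.1 (hC hq).1.1).2 h.1.2, (adj_comm h.1.1.1 (hC hr).1.1).2 h.2⟩⟩
    by_cases h2 : R q r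
    · rw [if_pos h2, ← Set.ncard_coe_finset, hset]
      exact L.triple a ha q (hC hq).1 r (hC hr).1 (fun h => h1 h.symm) h2.2.2
    · rw [if_neg h2, ← Set.ncard_coe_finset, hset]
      exact L.far a ha q (hC hq).1 r (hC hr).1 fun h => h2 ⟨(hC hr).1.1, h1, h⟩
  have hsq : ((∑ p ∈ A, (c.filter (R p)).card ^ 2 : ℕ) : ℤ)
      = c.card * (β * c.card + (l - β) + β * (α - β)) := by
    have e2 : ∑ p ∈ A, (c.filter (R p)).card ^ 2
        = ∑ q ∈ c, ∑ r ∈ c, if r = q then l else if R q r then α else β := by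
      calc ∑ p ∈ A, (c.filter (R p)).card ^ 2
          = ∑ q ∈ c, ∑ r ∈ c, (A.filter fun p => R p q ∧ R p r).card := by
            simp only [Finset.card_filter, sq, Finset.sum_mul_sum]
            rw [Finset.sum_comm]
            refine Finset.sum_congr rfl fun q _ => ?_
            rw [Finset.sum_comm]
            refine Finset.sum_congr rfl fun r _ => Finset.sum_congr rfl fun p _ => ?_
            by_cases h1 : R p q <;> by_cases h2 : R p r <;> simp [h1, h2]
        _ = _ := Finset.sum_congr rfl fun q hq => Finset.sum_congr rfl (hpair q hq)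
    rw [e2, Nat.cast_sum]
    have e1 : ∀ q ∈ c, ((∑ r ∈ c, if r = q then l else if R q r then α else β : ℕ) : ℤ)
        = β * c.card + (l - β) + β * (α - β) := by
      intro q hq
      have hβ := hin q hq
      have e : ∀ r ∈ c, (((if r = q then l else if R q r then α else β : ℕ)) : ℤ)
          = (β : ℤ) + (if r = q then (l : ℤ) - β else 0) + (if R q r then (α : ℤ) - β else 0) := by
        intro r _
        by_cases h : r = q
        · subst h
          rw [if_pos rfl, if_pos rfl, if_neg (fun h' : R r r => h'.2.1 rfl)]; ring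
        · by_cases h' : R q r <;> simp [h, h']
      rw [Nat.cast_sum, Finset.sum_congr rfl e, Finset.sum_add_distrib, Finset.sum_add_distrib,
        Finset.sum_const, Finset.sum_ite_eq' c q, if_pos hq, ← Finset.sum_filter, Finset.sum_const, hβ]
      simp only [nsmul_eq_mul]
      ring
    rw [Finset.sum_congr rfl e1, Finset.sum_const, nsmul_eq_mul]
  have hc1 : ∑ p ∈ c, (c.filter (R p)).card = β * c.card := by
    rw [Finset.sum_congr rfl hin, Finset.sum_const, smul_eq_mul, mul_comm]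
  have hc2 : ∑ p ∈ c, (c.filter (R p)).card ^ 2 = β ^ 2 * c.card := by
    rw [Finset.sum_congr rfl fun p hp => by rw [hin p hp], Finset.sum_const, smul_eq_mul, mul_comm]
  set B := A \ c with hB
  have hB1 : ∑ p ∈ B, (c.filter (R p)).card + β * c.card = l * c.card := by
    rw [← htot, ← Finset.sum_sdiff hcA, hc1]
  have hB2 : ((∑ p ∈ B, (c.filter (R p)).card ^ 2 : ℕ) : ℤ) + (β : ℤ) ^ 2 * c.card
      = c.card * (β * c.card + (l - β) + β * (α - β)) := by
    rw [← hsq, ← Finset.sum_sdiff hcA, hc2]; push_cast; rfl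
  have hBc : B.card + c.card = K := by rw [← hAc, ← Finset.card_sdiff_add_card_eq_card hcA]
  have hcs : (∑ p ∈ B, (c.filter (R p)).card) ^ 2 ≤ B.card * ∑ p ∈ B, (c.filter (R p)).card ^ 2 :=
    sq_sum_le_card_mul_sum_sq
  have hpos : 0 < c.card := by rw [hcn]; exact (Set.ncard_pos (Set.toFinite _)).2 hne
  rw [← hcn]
  generalize ∑ p ∈ B, (c.filter (R p)).card = s1 at hB1 hcs
  generalize ∑ p ∈ B, (c.filter (R p)).card ^ 2 = s2 at hB2 hcs
  zify at hcs hB1 hBc hpos
  generalize (c.card : ℤ) = n at *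
  generalize hm : (B.card : ℤ) = m at *
  rw [show (K : ℤ) - n = m by linarith]
  have h0 : (0 : ℤ) ≤ s2 := Int.natCast_nonneg _
  have h2 : (s2 : ℤ) = n * ((l : ℤ) + β * α - β - 2 * β ^ 2 + n * β) := by linear_combination hB2
  have h1 : (s1 : ℤ) = n * ((l : ℤ) - β) := by linear_combination hB1
  rw [h2] at h0 hcs
  rw [h1] at hcs
  refine ⟨nonneg_of_mul_nonneg_right h0 hpos, le_of_mul_le_mul_left ?_ hpos⟩
  linarith

/-- The common neighbours form a connected commuting graph when two parts do not fit. -/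
theorem connected {a e : G} (ha : a ∈ D) (he : e ∈ D) (hae : ¬ Commute a e) {lo hi : ℕ}
    (hb : ∀ N : ℤ, 0 ≤ (l : ℤ) + β * α - β - 2 * β ^ 2 + N * β →
      ((l : ℤ) - β) ^ 2 * N ≤ ((K : ℤ) - N) * ((l : ℤ) + β * α - β - 2 * β ^ 2 + N * β) →
      (lo : ℤ) ≤ N ∧ N ≤ hi) (hlt : hi < 2 * lo) :
    ConnectedComm (common D a e) ∧ ((common D a e).Nonempty → lo ≤ (common D a e).ncard) ∧
      (common D a e).ncard ≤ hi := by
  have key : ∀ C : Set G, C ⊆ common D a e → C.Nonempty →
      (∀ q ∈ C, ∀ r ∈ common D a e, Commute q r → r ∈ C) → lo ≤ C.ncard ∧ C.ncard ≤ hi := by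
    intro C hC hne hcl
    obtain ⟨h0, h1⟩ := L.closed_bound ha he hae hC hne hcl
    exact_mod_cast hb (C.ncard : ℤ) h0 h1
  set S := common D a e with hS
  refine ⟨fun p hp q hq => ?_, fun hne => (key S subset_rfl hne fun _ _ _ hr _ => hr).1, ?_⟩
  · by_contra hn
    set P : G → Prop := fun z => ReflTransGen (fun u v => u ∈ S ∧ v ∈ S ∧ Commute u v) p z
    have h1 := key {z | z ∈ S ∧ P z} (fun z hz => hz.1) ⟨p, hp, ReflTransGen.refl⟩
      fun z hz r hr hzr => ⟨hr, hz.2.tail ⟨hz.1, hr, hzr⟩⟩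
    have h2 := key {z | z ∈ S ∧ ¬ P z} (fun z hz => hz.1) ⟨q, hq, hn⟩
      fun z hz r hr hzr => ⟨hr, fun h => hz.2 (h.tail ⟨hr, hz.1, hzr.symm⟩)⟩
    have h3 := (key S subset_rfl ⟨p, hp⟩ fun _ _ _ hr _ => hr).2
    have h4 : {z | z ∈ S ∧ P z} ∪ {z | z ∈ S ∧ ¬ P z} = S := by
      ext z
      simp only [Set.mem_union, Set.mem_ofPred_eq]
      tauto
    have h5 : Disjoint {z | z ∈ S ∧ P z} {z | z ∈ S ∧ ¬ P z} :=
      Set.disjoint_left.2 fun z hz hz' => hz'.2 hz.2
    have h6 := Set.ncard_union_eq h5 (Set.toFinite _) (Set.toFinite _)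
    rw [h4] at h6
    omega
  · rcases S.eq_empty_or_nonempty with h | h
    · rw [h, Set.ncard_empty]; exact Nat.zero_le _
    · exact (key S subset_rfl h fun _ _ _ hr _ => hr).2

end LocalCounts

/-- The numbers for a local group of unitary type six. -/
theorem bound_six : ∀ N : ℤ, 0 ≤ ((180 : ℕ) : ℤ) + (45 : ℕ) * (51 : ℕ) - (45 : ℕ) - 2 * ((45 : ℕ) : ℤ) ^ 2
      + N * (45 : ℕ) →
    (((180 : ℕ) : ℤ) - (45 : ℕ)) ^ 2 * N ≤ (((693 : ℕ) : ℤ) - N) * (((180 : ℕ) : ℤ) + (45 : ℕ) * (51 : ℕ)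
      - (45 : ℕ) - 2 * ((45 : ℕ) : ℤ) ^ 2 + N * (45 : ℕ)) →
    ((126 : ℕ) : ℤ) ≤ N ∧ N ≤ (198 : ℕ) := by
  intro N h0 h
  norm_num at h0 h ⊢
  constructor <;> by_contra hlt <;> nlinarith

/-- The numbers for a local group of type M(22). -/
theorem bound_m22 : ∀ N : ℤ, 0 ≤ ((693 : ℕ) : ℤ) + (126 : ℕ) * (180 : ℕ) - (126 : ℕ)
      - 2 * ((126 : ℕ) : ℤ) ^ 2 + N * (126 : ℕ) →
    (((693 : ℕ) : ℤ) - (126 : ℕ)) ^ 2 * N ≤ (((3510 : ℕ) : ℤ) - N) * (((693 : ℕ) : ℤ) + (126 : ℕ) * (180 : ℕ)
      - (126 : ℕ) - 2 * ((126 : ℕ) : ℤ) ^ 2 + N * (126 : ℕ)) →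
    ((351 : ℕ) : ℤ) ≤ N ∧ N ≤ (675 : ℕ) := by
  intro N h0 h
  norm_num at h0 h ⊢
  constructor <;> by_contra hlt <;> nlinarith

end Cfsg.Agent.FischerMain
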