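/-
The discriminant of a five-dimensional chart with forty-five points.

Main results (namespace `Cfsg.Agent.FischerMain`):
* `Chart3.det_of_ncard` : forty-five points force discriminant `2 * c`.
-/
import Cfsg.Agent.Lib.FischerMain.MChain.Chart
import Cfsg.Agent.Lib.QuadClass.Odd

set_option autoImplicit false

namespace Cfsg.Agent.FischerMain

open Cfsg Cfsg.Agent.QuadClass
open QuadraticMap (polar)

/-- The diagonal form of the other discriminant. -/
def oddDiag (c : ZMod 3) : Fin 5 → ZMod 3 := ![1, 1, 1, 1, 2 * c]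

theorem oddDiag_prod : ∀ c : ZMod 3, c ≠ 0 → 2 ^ 5 * ∏ i, oddDiag c i = c ∧ ∀ i, oddDiag c i ≠ 0 := by
  decide +kernel

theorem oddDiag_card : ∀ c : ZMod 3, c ≠ 0 →
    (Finset.univ.filter fun v : Fin 5 → ZMod 3 => ∑ i, oddDiag c i * (v i * v i) = c).card = 72 := by
  decide +kernel

theorem z3_two_cases : ∀ c d : ZMod 3, c ≠ 0 → d ≠ 0 → d ≠ 2 * c → d = c := by decide

theorem ne_neg_self_z3 : ∀ x : ZMod 3, x = -x → x = 0 := by decide

variable {G : Type*} [Group G] {X : Set G}

/-- The chart is two to one. -/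
theorem Chart3.card_vectors [Finite G] {n : ℕ} {Q : QuadraticForm (ZMod 3) (Fin n → ZMod 3)} {c : ZMod 3}
    {ψ : (Fin n → ZMod 3) → G} (hch : Chart3 X Q c ψ) :
    Nat.card {v : Fin n → ZMod 3 // Q v = c} = 2 * X.ncard := by
  classical
  have := Fintype.ofFinite G
  rw [Nat.card_eq_fintype_card, Fintype.card_subtype, Set.ncard_eq_toFinset_card']
  rw [Finset.card_eq_sum_card_fiberwise (f := ψ) (t := X.toFinset) (fun v hv => by
    simp only [Finset.mem_coe, Finset.mem_filter, Finset.mem_univ, true_and] at hv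
    simp only [Finset.mem_coe, Set.mem_toFinset]
    exact hch.mem v hv)]
  have hfib : ∀ y ∈ X.toFinset,
      ((Finset.univ.filter fun v : Fin n → ZMod 3 => Q v = c).filter fun v => ψ v = y).card = 2 := by
    intro y hy
    obtain ⟨u, hu, rfl⟩ := hch.surj y (Set.mem_toFinset.1 hy)
    have hne : u ≠ -u := fun e => hch.c_ne (by
      have h0 : u = 0 := funext fun i => ne_neg_self_z3 _ (congrFun e i)
      rw [← hu, h0, QuadraticMap.map_zero])
    have hneg : Q (-u) = c := by rw [QuadraticMap.map_neg, hu]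
    have e : ((Finset.univ.filter fun v : Fin n → ZMod 3 => Q v = c).filter fun v => ψ v = ψ u)
        = {u, -u} := by
      ext v
      simp only [Finset.mem_filter, Finset.mem_univ, true_and, Finset.mem_insert, Finset.mem_singleton]
      constructor
      · rintro ⟨hv, h⟩
        exact (hch.eq_iff u v hu hv).1 h.symm
      · rintro (rfl | rfl)
        · exact ⟨hu, rfl⟩
        · exact ⟨hneg, ((hch.eq_iff u (-u) hu hneg).2 (Or.inr rfl)).symm⟩
    rw [e, Finset.card_pair hne]
  rw [Finset.sum_congr rfl hfib, Finset.sum_const, smul_eq_mul, mul_comm]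

theorem Chart3.det_of_ncard [Finite G] {Q : QuadraticForm (ZMod 3) (Fin 5 → ZMod 3)} {c : ZMod 3}
    {ψ : (Fin 5 → ZMod 3) → G} (hch : Chart3 X Q c ψ) (h45 : X.ncard = 45) :
    polarGramDet ⇑Q = 2 * c := by
  classical
  have hdet : disc Q = polarGramDet ⇑Q := disc_eq Q
  by_contra hne
  have hd : disc Q = c :=
    z3_two_cases c _ hch.c_ne (disc_ne_zero Q hch.nd) (by rwa [hdet])
  obtain ⟨hp, hw⟩ := oddDiag_prod c hch.c_ne
  have h2 : disc (diagForm (oddDiag c)) = c := by rw [disc_diag, hp]
  have hnd : (diagForm (oddDiag c)).polarBilin.Nondegenerate :=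
    LinearMap.BilinForm.nondegenerate_toMatrix'_iff.1
      (Matrix.nondegenerate_iff_det_ne_zero.2 (show disc (diagForm (oddDiag c)) ≠ 0 by rw [h2]; exact hch.c_ne))
  obtain ⟨e⟩ := (equivalent_iff_disc (by decide) Q (diagForm (oddDiag c)) hch.nd hnd).2
    ⟨c, by rw [hd, h2]⟩
  have hcard : Nat.card {v : Fin 5 → ZMod 3 // Q v = c} = 72 := by
    rw [← oddDiag_card c hch.c_ne, Nat.card_congr (e.toLinearEquiv.toEquiv.subtypeEquiv
      (q := fun v => diagForm (oddDiag c) v = c) fun v => by
        show Q v = c ↔ diagForm (oddDiag c) (e v) = c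
        rw [e.map_app]), Nat.card_eq_fintype_card, Fintype.card_subtype]
    congr 1
  rw [hch.card_vectors, h45] at hcard
  omega

end Cfsg.Agent.FischerMain
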