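/-
Orthogonal spaces of dimension eight and discriminant one over three elements.

Main results (namespace `Cfsg.Agent.FischerMain`):
* `eight_equiv` : such a form is isometric to `c` times a sum of eight squares;
* `eight_frame` : it has eight orthogonal vectors of norm `c`;
* `Chart3.ncard_eight` : a chart on it has 1080 members.
-/
import Cfsg.Agent.Lib.FischerMain.MChain.Det

set_option autoImplicit false

namespace Cfsg.Agent.FischerMain

open Cfsg Cfsg.Agent.QuadClass
open QuadraticMap (polar)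

/-- The values of a sum of four squares over three elements. -/
theorem four_squares : ∀ t : ZMod 3, (Finset.univ.filter fun v : Fin 4 → ZMod 3 => ∑ i, v i * v i = t).card
    = if t = 0 then 33 else 24 := by
  decide +kernel

theorem four_squares_sum :
    ∑ a : Fin 4 → ZMod 3, (if (1 : ZMod 3) - ∑ i, a i * a i = 0 then 33 else 24) = 2160 := by
  decide +kernel

/-- A sum of eight squares takes the value one at 2160 vectors. -/
theorem eight_squares :
    Nat.card {v : Fin 8 → ZMod 3 // ∑ i, v i * v i = 1} = 2160 := by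
  classical
  have e : {v : Fin (4 + 4) → ZMod 3 // ∑ i, v i * v i = 1} ≃
      {p : (Fin 4 → ZMod 3) × (Fin 4 → ZMod 3) // ∑ i, p.2 i * p.2 i = 1 - ∑ i, p.1 i * p.1 i} :=
    ((Fin.appendEquiv 4 4).subtypeEquiv fun p => by
      show _ ↔ ∑ i, Fin.append p.1 p.2 i * Fin.append p.1 p.2 i = 1
      simp only [Fin.sum_univ_add, Fin.append_left, Fin.append_right]
      rw [eq_sub_iff_add_eq, add_comm]).symm
  show Nat.card {v : Fin (4 + 4) → ZMod 3 // ∑ i, v i * v i = 1} = 2160
  rw [Nat.card_congr e, Nat.card_congr (Equiv.subtypeProdEquivSigmaSubtype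
    fun a b : Fin 4 → ZMod 3 => ∑ i, b i * b i = 1 - ∑ i, a i * a i), Nat.card_eq_fintype_card,
    Fintype.card_sigma]
  refine Eq.trans (Finset.sum_congr rfl fun a _ => ?_) four_squares_sum
  rw [Fintype.card_subtype]
  exact four_squares _

theorem eight_disc : ∀ c : ZMod 3, c ≠ 0 → 2 ^ 8 * ∏ _i : Fin 8, c = 1 := by decide +kernel

theorem eight_polar : ∀ i j : Fin 8, i ≠ j →
    (∑ k, (Pi.single i 1 + Pi.single j 1 : Fin 8 → ZMod 3) k * (Pi.single i 1 + Pi.single j 1 : Fin 8 → ZMod 3) k)
      = 2 := by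
  decide +kernel

theorem eight_single : ∀ i : Fin 8,
    (∑ k, (Pi.single i 1 : Fin 8 → ZMod 3) k * (Pi.single i 1 : Fin 8 → ZMod 3) k) = 1 := by
  decide +kernel

/-- A form of dimension eight and discriminant one is `c` times a sum of squares. -/
theorem eight_equiv {Q : QuadraticForm (ZMod 3) (Fin 8 → ZMod 3)} (hQ : Q.polarBilin.Nondegenerate)
    {c : ZMod 3} (hc : c ≠ 0) (hd : polarGramDet ⇑Q = 1) :
    Q.Equivalent (diagForm fun _ : Fin 8 => c) := by
  have h1 : disc Q = 1 := (disc_eq Q).trans hd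
  have h2 : disc (diagForm fun _ : Fin 8 => c) = 1 := by rw [disc_diag, eight_disc c hc]
  have hnd : (diagForm fun _ : Fin 8 => c).polarBilin.Nondegenerate :=
    LinearMap.BilinForm.nondegenerate_toMatrix'_iff.1
      (Matrix.nondegenerate_iff_det_ne_zero.2
        (show disc (diagForm fun _ : Fin 8 => c) ≠ 0 by rw [h2]; exact one_ne_zero))
  exact (equivalent_iff_disc (by decide) Q _ hQ hnd).2 ⟨1, by rw [h1, h2, one_mul]⟩

theorem diag_const (c : ZMod 3) (v : Fin 8 → ZMod 3) :
    diagForm (fun _ : Fin 8 => c) v = c * ∑ i, v i * v i := by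
  rw [diagForm_apply, Finset.mul_sum]

/-- Eight orthogonal vectors of norm `c`. -/
theorem eight_frame {Q : QuadraticForm (ZMod 3) (Fin 8 → ZMod 3)} (hQ : Q.polarBilin.Nondegenerate)
    {c : ZMod 3} (hc : c ≠ 0) (hd : polarGramDet ⇑Q = 1) :
    ∃ v : Fin 8 → (Fin 8 → ZMod 3), (∀ i, Q (v i) = c) ∧ ∀ i j, i ≠ j → polar ⇑Q (v i) (v j) = 0 := by
  obtain ⟨e⟩ := eight_equiv hQ hc hd
  have hQe : ∀ w, Q (e.symm w) = c * ∑ k, w k * w k := fun w => by rw [e.symm.map_app, diag_const]
  refine ⟨fun i => e.symm (Pi.single i 1), fun i => by rw [hQe, eight_single, mul_one], fun i j h => ?_⟩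
  rw [polar, ← map_add, hQe, hQe, hQe, eight_polar i j h, eight_single, eight_single]
  ring

/-- A chart of dimension eight and discriminant one has 1080 members. -/
theorem Chart3.ncard_eight {G : Type*} [Group G] [Finite G] {X : Set G}
    {Q : QuadraticForm (ZMod 3) (Fin 8 → ZMod 3)} {c : ZMod 3} {ψ : (Fin 8 → ZMod 3) → G}
    (hch : Chart3 X Q c ψ) (hd : polarGramDet ⇑Q = 1) : X.ncard = 1080 := by
  obtain ⟨e⟩ := eight_equiv hch.nd hch.c_ne hd
  have h := hch.card_vectors
  rw [Nat.card_congr (e.toLinearEquiv.toEquiv.subtypeEquiv (q := fun v => ∑ i, v i * v i = (1 : ZMod 3))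
    fun v => by
      show Q v = c ↔ ∑ i, e v i * e v i = 1
      rw [← e.map_app, diag_const]
      exact ⟨fun h => mul_left_cancel₀ hch.c_ne (h.trans (mul_one c).symm), fun h => by rw [h, mul_one]⟩),
    eight_squares] at h
  omega

end Cfsg.Agent.FischerMain
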