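/-
A set of members that is locally a chart of orthogonal type, seen in the group it generates modulo the centre.

Main results (namespace `Cfsg.Agent.FischerMain`):
* `LocO3 S n` : `S` is a connected set of 3-transpositions closed under conjugation by its members, and the members
  commuting with one of them are a chart of dimension `n ≥ 5`;
* `LocO3.base`, `LocO3.conn`, `LocO3.chart` : the quotient satisfies the hypotheses of the recognition;
* `LocO3.pull` : a chart of the quotient gives a chart of `S`.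
-/
import Cfsg.Agent.Lib.FischerMain.MChain.Chart
import Cfsg.Agent.Lib.FischerMain.Setting

set_option autoImplicit false

namespace Cfsg.Agent.FischerMain

open Cfsg Cfsg.Agent.ThreeTransRank Cfsg.Agent.ThreeTrans Relation

variable {G : Type*} [Group G] {S : Set G} {n : ℕ}

/-- A connected set of 3-transpositions with charts of orthogonal type around each member. -/
structure LocO3 (S : Set G) (n : ℕ) : Prop where
  set : IsThreeTranspositionSet S
  closed : ∀ a ∈ S, ∀ b ∈ S, a * b * a ∈ S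
  conn : ConnectedComm S
  ne : S.Nonempty
  five : 5 ≤ n
  loc : ∀ a ∈ S, ∃ (Q : QuadraticForm (ZMod 3) (Fin n → ZMod 3)) (c : ZMod 3) (ψ : (Fin n → ZMod 3) → G),
    Chart3 (adj S a) Q c ψ

/-- The members inside the group they generate. -/
def genSet (S : Set G) : Set ↥(Subgroup.closure S) := {g | (g : G) ∈ S}

/-- The group generated, modulo its centre. -/
abbrev GenQ (S : Set G) : Type _ := ↥(Subgroup.closure S) ⧸ Subgroup.center ↥(Subgroup.closure S)

/-- Its distinguished set. -/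
abbrev genQSet (S : Set G) : Set (GenQ S) := toQ ↥(Subgroup.closure S) '' genSet S

/-- The image of an element in the quotient. -/
noncomputable def gq (S : Set G) (y : G) : GenQ S := by
  classical exact if h : y ∈ Subgroup.closure S then toQ _ ⟨y, h⟩ else 1

theorem gq_of_mem {y : G} (h : y ∈ Subgroup.closure S) : gq S y = toQ _ ⟨y, h⟩ := by rw [gq, dif_pos h]

theorem gq_image : gq S '' S = genQSet S := by
  ext q
  constructor
  · rintro ⟨y, hy, rfl⟩
    exact ⟨⟨y, Subgroup.subset_closure hy⟩, hy, (gq_of_mem _).symm⟩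
  · rintro ⟨g, hg, rfl⟩
    exact ⟨g, hg, gq_of_mem g.2⟩

namespace LocO3

variable [Finite G] (h : LocO3 S n)
include h

theorem adj_point {a : G} (ha : a ∈ S) : (adj S a).Nonempty := by
  obtain ⟨Q, c, ψ, hch⟩ := h.loc a ha
  obtain ⟨v, hv⟩ := Orth.exists_Q_eq hch.nd (by rw [Fintype.card_fin]; have := h.five; omega) c
  exact ⟨ψ v, hch.mem v hv⟩

theorem conj_mem {g : G} (hg : g ∈ Subgroup.closure S) : ∀ b ∈ S, g * b * g⁻¹ ∈ S := by
  induction hg using Subgroup.closure_induction_left with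
  | one => intro b hb; simpa using hb
  | mul_left a ha u _ hu =>
    intro b hb
    have := h.closed a ha _ (hu b hb)
    rw [show a * u * b * (a * u)⁻¹ = a * (u * b * u⁻¹) * a⁻¹ by group, inv_eq h.set ha]
    exact this
  | inv_mul_cancel a ha u _ hu =>
    intro b hb
    have := h.closed a ha _ (hu b hb)
    rw [show a⁻¹ * u * b * (a⁻¹ * u)⁻¹ = a⁻¹ * (u * b * u⁻¹) * a by group, inv_eq h.set ha]
    exact this

theorem conj_of_not_commute {a b : G} (ha : a ∈ S) (hb : b ∈ S) (hab : ¬ Commute a b) :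
    IsConj (⟨a, Subgroup.subset_closure ha⟩ : ↥(Subgroup.closure S)) ⟨b, Subgroup.subset_closure hb⟩ := by
  refine isConj_iff.2 ⟨⟨a * b, mul_mem (Subgroup.subset_closure ha) (Subgroup.subset_closure hb)⟩,
    Subtype.ext ?_⟩
  show a * b * a * (a * b)⁻¹ = b
  rw [braid h.set ha hb hab, mul_inv_rev, inv_eq h.set ha, inv_eq h.set hb]
  simp only [mul_assoc, mul_self_cancel h.set hb, mul_self h.set ha, mul_self h.set hb,
    mul_self_cancel h.set ha, mul_one]

theorem conj_all {a b : G} (ha : a ∈ S) (hb : b ∈ S) :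
    IsConj (⟨a, Subgroup.subset_closure ha⟩ : ↥(Subgroup.closure S)) ⟨b, Subgroup.subset_closure hb⟩ := by
  have key : ∀ c, ReflTransGen (fun u v => u ∈ S ∧ v ∈ S ∧ Commute u v) a c → ∀ hc : c ∈ S,
      IsConj (⟨a, Subgroup.subset_closure ha⟩ : ↥(Subgroup.closure S)) ⟨c, Subgroup.subset_closure hc⟩ := by
    intro c hac
    induction hac with
    | refl => intro _; exact IsConj.refl _
    | @tail u v _ huv ih =>
      intro hv
      refine (ih huv.1).trans ?_
      by_cases e : v = u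
      · subst e; exact IsConj.refl _
      obtain ⟨Q, c, ψ, hch⟩ := h.loc u huv.1
      obtain ⟨t, ht, htv, hct⟩ := hch.exists_perp (by have := h.five; omega)
        (show v ∈ adj S u from ⟨hv, e, huv.2.2⟩)
      obtain ⟨Q', c', ψ', hch'⟩ := h.loc t ht.1
      obtain ⟨s, hs, hsu, hsv⟩ := hch'.exists_link (by have := h.five; omega)
        (show u ∈ adj S t from ⟨huv.1, ht.2.1.symm, ht.2.2.symm⟩)
        (show v ∈ adj S t from ⟨hv, htv.symm, hct.symm⟩) huv.2.2 (Ne.symm e)
      exact (h.conj_of_not_commute huv.1 hs.1 fun e' => hsu e'.symm).trans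
        (h.conj_of_not_commute hs.1 hv hsv)
  exact key b (h.conn a ha b hb) hb

theorem cls : IsThreeTranspositionClass (genSet S) := by
  obtain ⟨a, ha⟩ := h.ne
  refine ⟨⟨fun g hg => ?_, fun g hg k hk => ?_⟩, ⟨⟨a, Subgroup.subset_closure ha⟩, ha, ?_⟩,
    Subgroup.closure_closure_coe_preimage (k := S)⟩
  · rw [← Subgroup.orderOf_coe]; exact h.set.1 _ hg
  · rcases h.set.2 _ hg _ hk with e | e
    · exact Or.inl (Subtype.ext e)
    · exact Or.inr (Subtype.ext e)
  · ext g
    constructor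
    · intro hg; exact h.conj_all ha hg
    · intro hg
      obtain ⟨k, rfl⟩ := isConj_iff.1 (show IsConj (⟨a, Subgroup.subset_closure ha⟩ : ↥(Subgroup.closure S)) g from hg)
      exact h.conj_mem k.2 a ha

theorem two : ∃ a ∈ genSet S, ∃ b ∈ genSet S, a ≠ b := by
  obtain ⟨a, ha⟩ := h.ne
  obtain ⟨b, hb⟩ := h.adj_point ha
  exact ⟨⟨a, Subgroup.subset_closure ha⟩, ha, ⟨b, Subgroup.subset_closure hb.1⟩, hb.1,
    fun e => hb.2.1 (congrArg Subtype.val e).symm⟩

theorem cores : CentralCores ↥(Subgroup.closure S) := by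
  have hn := h.five
  refine centralCores_of_separated (group_of_class h.cls) (fun a ha b hb hV => ?_) fun a ha b hb hA => ?_
  · by_contra hne
    have hne' : (a : G) ≠ b := fun e => hne (Subtype.ext e)
    have hab : Commute (a : G) b := commute_coe_iff.1 ((hV a ha).2 (Commute.refl a)).symm
    obtain ⟨Q, c, ψ, hch⟩ := h.loc a ha
    obtain ⟨s, hs, hbs⟩ := hch.exists_nonc (by omega) (show (b : G) ∈ adj S a from ⟨hb, hne'.symm, hab⟩)
    exact hbs (commute_coe_iff.1 ((hV ⟨s, Subgroup.subset_closure hs.1⟩ hs.1).2 (commute_coe_iff.2 hs.2.2)))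
  · by_contra hne
    have hne' : (a : G) ≠ b := fun e => hne (Subtype.ext e)
    have hadj : ∀ {g : G}, g ∈ adj S a → g ∈ adj S b := fun {g} hg => by
      have h1 : (⟨g, Subgroup.subset_closure hg.1⟩ : ↥(Subgroup.closure S)) ∈ adj (genSet S) a :=
        ⟨hg.1, fun e => hg.2.1 (congrArg Subtype.val e), commute_coe_iff.2 hg.2.2⟩
      rw [hA] at h1
      exact ⟨hg.1, fun e => h1.2.1 (Subtype.ext e), commute_coe_iff.1 h1.2.2⟩
    have hab : ¬ Commute (a : G) b := fun e => (hadj (⟨hb, hne'.symm, e⟩ : (b : G) ∈ adj S a)).2.1 rfl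
    obtain ⟨t, ht⟩ := h.adj_point ha
    obtain ⟨Q, c, ψ, hch⟩ := h.loc t ht.1
    obtain ⟨s, hs, hsa, hsca, hscb⟩ := hch.exists_split
      (show (a : G) ∈ adj S t from ⟨ha, ht.2.1.symm, ht.2.2.symm⟩)
      (show (b : G) ∈ adj S t from ⟨hb, (hadj ht).2.1.symm, (hadj ht).2.2.symm⟩) hab
    exact hscb (hadj (⟨hs.1, hsa, hsca.symm⟩ : s ∈ adj S a)).2.2.symm

theorem base : Base (genQSet S) where
  cls := class_quotient h.cls h.two
  rad := trivialRadical_quotient (group_of_class h.cls) h.cores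
  two := two_le_quotient h.cls h.two

theorem gq_inj : Set.InjOn (gq S) S := by
  intro a ha b hb e
  rw [gq_of_mem (Subgroup.subset_closure ha), gq_of_mem (Subgroup.subset_closure hb)] at e
  exact congrArg Subtype.val (mk_inj h.cls h.two (x := ⟨a, _⟩) (y := ⟨b, _⟩) ha hb e)

theorem gq_comm {a b : G} (ha : a ∈ S) (hb : b ∈ S) : Commute (gq S a) (gq S b) ↔ Commute a b := by
  rw [gq_of_mem (Subgroup.subset_closure ha), gq_of_mem (Subgroup.subset_closure hb)]
  exact ⟨fun e => commute_coe_iff.1 (commute_of_commute_mk h.cls h.two (x := ⟨a, _⟩) (y := ⟨b, _⟩) ha hb e),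
    fun e => (commute_coe_iff.2 e : Commute (⟨a, Subgroup.subset_closure ha⟩ : ↥(Subgroup.closure S)) ⟨b, _⟩).map _⟩

omit [Finite G] h in
theorem gq_conj {a b : G} (ha : a ∈ S) (hb : b ∈ S) : gq S (a * b * a) = gq S a * gq S b * gq S a := by
  have h1 := Subgroup.subset_closure (k := S) ha
  have h2 := Subgroup.subset_closure (k := S) hb
  rw [gq_of_mem h1, gq_of_mem h2, gq_of_mem (mul_mem (mul_mem h1 h2) h1), ← map_mul, ← map_mul]
  rfl

theorem conn' : ConnectedComm (genQSet S) := by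
  rw [← gq_image]
  rintro _ ⟨a, ha, rfl⟩ _ ⟨b, hb, rfl⟩
  exact (h.conn a ha b hb).lift (gq S) fun u v huv =>
    ⟨⟨u, huv.1, rfl⟩, ⟨v, huv.2.1, rfl⟩, (h.gq_comm huv.1 huv.2.1).2 huv.2.2⟩

theorem chart {a : G} (ha : a ∈ S) {Q : QuadraticForm (ZMod 3) (Fin n → ZMod 3)} {c : ZMod 3}
    {ψ : (Fin n → ZMod 3) → G} (hch : Chart3 (adj S a) Q c ψ) :
    gq S a ∈ genQSet S ∧ Chart3 (adj (genQSet S) (gq S a)) Q c (gq S ∘ ψ) := by
  refine ⟨gq_image.subset ⟨a, ha, rfl⟩, hch.push _ (h.gq_inj.mono fun y hy => hy.1) ?_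
    (fun u hu v hv => h.gq_comm hu.1 hv.1) fun u hu v hv => gq_conj hu.1 hv.1⟩
  rw [← gq_image]
  ext q
  constructor
  · rintro ⟨y, ⟨hy, hne, hc⟩, rfl⟩
    exact ⟨⟨y, hy, rfl⟩, fun e => hne (h.gq_inj hy ha e), (h.gq_comm ha hy).2 hc⟩
  · rintro ⟨⟨y, hy, rfl⟩, hne, hc⟩
    exact ⟨y, ⟨hy, fun e => hne (by rw [e]), (h.gq_comm ha hy).1 hc⟩, rfl⟩

/-- A chart of the quotient gives one of the set. -/
theorem pull {m : ℕ} {Q : QuadraticForm (ZMod 3) (Fin m → ZMod 3)} {c : ZMod 3}
    {ψ : (Fin m → ZMod 3) → GenQ S} (hch : Chart3 (genQSet S) Q c ψ) :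
    ∃ ψ' : (Fin m → ZMod 3) → G, Chart3 S Q c ψ' := by
  have : Nonempty G := ⟨1⟩
  set f := Function.invFunOn (gq S) S with hf
  have hmem : ∀ q ∈ genQSet S, f q ∈ S ∧ gq S (f q) = q := fun q hq => by
    rw [← gq_image] at hq
    exact ⟨Function.invFunOn_mem hq, Function.invFunOn_eq hq⟩
  have hleft : ∀ a ∈ S, f (gq S a) = a := fun a ha =>
    h.gq_inj.leftInvOn_invFunOn ha
  refine ⟨_, hch.push f ?_ ?_ (fun p hp q hq => ?_) fun p hp q hq => ?_⟩
  · intro p hp q hq e
    rw [← (hmem p hp).2, ← (hmem q hq).2, e]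
  · ext a
    exact ⟨by rintro ⟨q, hq, rfl⟩; exact (hmem q hq).1, fun ha => ⟨gq S a, gq_image.subset ⟨a, ha, rfl⟩, hleft a ha⟩⟩
  · rw [← h.gq_comm (hmem p hp).1 (hmem q hq).1, (hmem p hp).2, (hmem q hq).2]
  · have e := gq_conj (hmem p hp).1 (hmem q hq).1
    rw [(hmem p hp).2, (hmem q hq).2] at e
    rw [← e, hleft _ (h.closed _ (hmem p hp).1 _ (hmem q hq).1)]

end LocO3

/-- The common neighbours of two members are closed under conjugation by each other. -/
theorem common_closed {D : Set G} (hD : IsThreeTranspositionSet D)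
    (hconj : ∀ g : G, ∀ d ∈ D, g * d * g⁻¹ ∈ D) {a b : G} :
    ∀ p ∈ common D a b, ∀ q ∈ common D a b, p * q * p ∈ common D a b := by
  intro p hp q hq
  have h1 := (conj_mem_common_iff hconj p (a := a) (b := b)).2 hq
  rwa [← hp.1.2.2.eq, mul_inv_cancel_right, ← hp.2.2.2.eq, mul_inv_cancel_right, inv_eq hD hp.1.1] at h1

theorem adj_common {D : Set G} {a b v : G} (hv : v ∈ common D a b) :
    adj (common D a b) v = common D a b ∩ adj D v :=
  Set.ext fun _ => ⟨fun hy => ⟨hy.1, hy.1.1.1, hy.2⟩, fun hy => ⟨hy.1, hy.2.2⟩⟩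

end Cfsg.Agent.FischerMain
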