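/-
Counts and charts of the local quotient read in the group.

Main results (namespace `Cfsg.Agent.FischerMain`):
* `lq`, `Central.qimage`, `Central.qimage_adj`, `Central.qimage_common` : the neighbours of `x` and their common
  neighbours as sets of the local quotient;
* `Central.localCounts` : the local counts of a class from those of one local quotient.
-/
import Cfsg.Agent.Lib.FischerMain.MChain.Glue
import Cfsg.Agent.Lib.FischerMain.MChain.Count

set_option autoImplicit false

namespace Cfsg.Agent.FischerMain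

open Cfsg Cfsg.Agent.ThreeTransRank Cfsg.Agent.ThreeTrans

variable {G : Type*} [Group G]

/-- The image of an element in the local quotient at `x`. -/
noncomputable def lq (D : Set G) (x y : G) : LocQ D x := gq (adj D x) y

theorem lq_of_mem {D : Set G} {x y : G} (h : y ∈ Loc D x) : lq D x y = toQ ↥(Loc D x) ⟨y, h⟩ := gq_of_mem h

variable [Finite G] {D : Set G} {x : G}

theorem Central.qimage (h : Central D) (hx : x ∈ D) :
    Set.InjOn (lq D x) (adj D x) ∧ lq D x '' adj D x = locQSet D x ∧
      ∀ a ∈ adj D x, ∀ b ∈ adj D x, (Commute (lq D x a) (lq D x b) ↔ Commute a b) := by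
  refine ⟨fun a ha b hb e => ?_, gq_image (S := adj D x), fun a ha b hb => ?_⟩
  · rw [lq_of_mem (Subgroup.subset_closure ha), lq_of_mem (Subgroup.subset_closure hb)] at e
    exact h.lift_eq hx ha hb e
  · rw [lq_of_mem (Subgroup.subset_closure ha), lq_of_mem (Subgroup.subset_closure hb)]
    exact h.lift_comm hx ha hb

theorem Central.qimage_adj (h : Central D) (hx : x ∈ D) {a : G} (ha : a ∈ adj D x) :
    adj (locQSet D x) (lq D x a) = lq D x '' (adj D x ∩ adj D a) := by
  obtain ⟨hinj, himg, hcomm⟩ := h.qimage hx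
  ext q
  constructor
  · rintro ⟨hq, hne, hc⟩
    obtain ⟨b, hb, rfl⟩ := himg.symm.subset hq
    exact ⟨b, ⟨hb, hb.1, fun e => hne (e ▸ rfl), (hcomm a ha b hb).1 hc⟩, rfl⟩
  · rintro ⟨b, ⟨hb, -, hne, hc⟩, rfl⟩
    exact ⟨himg.subset ⟨b, hb, rfl⟩, fun e => hne (hinj hb ha e), (hcomm a ha b hb).2 hc⟩

theorem Central.qimage_common (h : Central D) (hx : x ∈ D) {a b : G} (ha : a ∈ adj D x) (hb : b ∈ adj D x) :
    common (locQSet D x) (lq D x a) (lq D x b) =
      lq D x '' (adj D x ∩ adj D a ∩ adj D b) := by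
  obtain ⟨hinj, -, -⟩ := h.qimage hx
  show adj _ _ ∩ adj _ _ = _
  rw [h.qimage_adj hx ha, h.qimage_adj hx hb,
    ← hinj.image_inter Set.inter_subset_left Set.inter_subset_left, ← Set.inter_inter_distrib_left,
    Set.inter_assoc]

theorem Central.qimage_ncard (h : Central D) (hx : x ∈ D) {S : Set G} (hS : S ⊆ adj D x) :
    (lq D x '' S).ncard = S.ncard :=
  Set.InjOn.ncard_image ((h.qimage hx).1.mono hS)

/-- The local counts from the numbers of one local quotient. -/
theorem Central.localCounts (h : Central D) (hx : x ∈ D) {K l α β : ℕ} (hK : (locQSet D x).ncard = K)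
    (hl : ∀ q ∈ locQSet D x, (adj (locQSet D x) q).ncard = l)
    (hα : ∀ q ∈ locQSet D x, ∀ r ∈ adj (locQSet D x) q, (common (locQSet D x) q r).ncard = α)
    (hβ : ∀ q ∈ locQSet D x, ∀ r ∈ locQSet D x, ¬ Commute q r → (common (locQSet D x) q r).ncard = β) :
    LocalCounts D K l α β := by
  obtain ⟨hinj, himg, hcomm⟩ := h.qimage hx
  have hm : ∀ a ∈ adj D x, lq D x a ∈ locQSet D x := fun a ha => himg.subset ⟨a, ha, rfl⟩
  refine LocalCounts.of_point h.cls hx ?_ (fun b hb => ?_) (fun a ha b hb hne hc => ?_) fun a ha b hb hc => ?_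
  · rw [← h.qimage_ncard hx subset_rfl, himg, hK]
  · rw [← h.qimage_ncard hx Set.inter_subset_left, ← h.qimage_adj hx hb, hl _ (hm b hb)]
  · rw [← h.qimage_ncard hx (Set.inter_subset_left.trans Set.inter_subset_left), ← h.qimage_common hx ha hb]
    refine hα _ (hm a ha) _ ?_
    exact ⟨hm b hb, fun e => hne (hinj hb ha e).symm, (hcomm a ha b hb).2 hc⟩
  · rw [← h.qimage_ncard hx (Set.inter_subset_left.trans Set.inter_subset_left), ← h.qimage_common hx ha hb,
      hβ _ (hm a ha) _ (hm b hb) fun e => hc ((hcomm a ha b hb).1 e)]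

/-- A common neighbour of every pair of non-commuting members, as a set of the local group at one of them. -/
theorem qimage_common_pair (h : Central D) {x z v : G} (hxz : ¬ Commute x z) (hv : v ∈ common D x z)
    (hx : x ∈ D) (hz : z ∈ D) :
    common (locQSet D v) (lq D v x) (lq D v z) =
      lq D v '' adj (common D x z) v ∧ ¬ Commute (lq D v x) (lq D v z) := by
  have hxv : x ∈ adj D v := mem_adj_symm hx hv.1
  have hzv : z ∈ adj D v := mem_adj_symm hz hv.2
  refine ⟨?_, fun e => hxz (((h.qimage hv.1.1).2.2 x hxv z hzv).1 e)⟩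
  rw [h.qimage_common hv.1.1 hxv hzv, adj_common hv, Set.inter_comm (common D x z)]
  show _ '' _ = _ '' (adj D v ∩ (adj D x ∩ adj D z))
  rw [Set.inter_assoc]

end Cfsg.Agent.FischerMain
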