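/-
No local group is of type M(24).

Main results (namespace `Cfsg.Agent.FischerMain`):
* `srg_root` : the integer square root decides the srg condition;
* `setup24_local`, `counts_m24` : the local counts (306936, 31671, 3510, 3240);
* `bound_m24`, `divisors_m24` : the common neighbours of a non-commuting pair are one of 18 numbers;
* `no_local_24`.
-/
import Cfsg.Agent.Lib.FischerMain.MChain.LocalQuot
import Cfsg.Agent.Lib.FischerMain.Srg
import Cfsg.Agent.Lib.FischerM24.Total

set_option autoImplicit false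

namespace Cfsg.Agent.FischerMain

open Cfsg Cfsg.Agent.ThreeTransRank Cfsg.Agent.ThreeTrans

/-- The integer square root decides the condition. -/
theorem srg_root {v k lam mu : ℕ} (a : ℕ)
    (ha : (a : ℤ) ^ 2 ≤ srgDisc k lam mu ∧ srgDisc k lam mu < ((a : ℤ) + 1) ^ 2)
    (h : srgTr v k lam mu = 0 ∨ ∃ s : ℕ, (s : ℤ) ^ 2 = srgDisc k lam mu ∧ (s : ℤ) ∣ srgTr v k lam mu) :
    srgTr v k lam mu = 0 ∨ ((a : ℤ) ^ 2 = srgDisc k lam mu ∧ (a : ℤ) ∣ srgTr v k lam mu) := by
  rcases h with h | ⟨s, hs, hd⟩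
  · exact Or.inl h
  obtain rfl : s = a := by
    have h1 : a ≤ s := by nlinarith [ha.1]
    have h2 : s < a + 1 := by nlinarith [ha.2]
    omega
  exact Or.inr ⟨hs, hd⟩

variable {G : Type*} [Group G] [Finite G] {D : Set G} {x : G}

/-- A local group of type M(24) satisfies the hypotheses of the library on such groups. -/
theorem setup24_local (h : Central D) (hx : x ∈ D) (h24 : IsOfTypeM24 (LocQ D x) (locQSet D x)) :
    FischerM24.Fi24Setup (locQSet D x) :=
  ⟨(h.base_local hx).cls, (h.base_local hx).cores, h.conn_local hx, h24⟩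

/-- The counts. -/
theorem counts_m24 (h : Central D) (hx : x ∈ D) (h24 : IsOfTypeM24 (LocQ D x) (locQSet D x)) :
    LocalCounts D 306936 31671 3510 3240 :=
  have S := setup24_local h hx h24
  h.localCounts hx (FischerM24.class_ncard S) (fun _ hq => FischerM24.adj_ncard S hq)
    (fun _ hq _ hr => FischerM24.common_ncard S hq hr)
    fun _ hq _ hr hc => FischerM24.common_card S hq hr hc

/-- The bound. -/
theorem bound_m24 : ∀ N : ℤ, 0 ≤ ((31671 : ℕ) : ℤ) + (3240 : ℕ) * (3510 : ℕ) - (3240 : ℕ)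
      - 2 * ((3240 : ℕ) : ℤ) ^ 2 + N * (3240 : ℕ) →
    (((31671 : ℕ) : ℤ) - (3240 : ℕ)) ^ 2 * N ≤ (((306936 : ℕ) : ℤ) - N) * (((31671 : ℕ) : ℤ)
      + (3240 : ℕ) * (3510 : ℕ) - (3240 : ℕ) - 2 * ((3240 : ℕ) : ℤ) ^ 2 + N * (3240 : ℕ)) →
    ((28312 : ℕ) : ℤ) ≤ N ∧ N ≤ (32103 : ℕ) := by
  intro N h0 h
  norm_num at h0 h ⊢
  constructor <;> by_contra hlt <;> nlinarith

/-- The divisors in the range, with their square roots of the discriminant. -/
def cand24 : List (ℕ × ℕ) := 
  [(28336, 3498), (29106, 2773), (29232, 2656), (29348, 2550), (29376, 2525), (29568, 2352),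
   (29988, 1985), (30107, 1885), (30429, 1627), (30464, 1600), (30624, 1483), (30912, 1296),
   (31059, 1215), (31262, 1126), (31416, 1080), (31552, 1056), (31878, 1069), (32016, 1103)]

theorem divisors_m24_aux : ∀ a : Fin 64, ∀ b : Fin 60, 28312 + (60 * a.val + b.val) ≤ 32103 →
    306936 * 275264 % (28312 + (60 * a.val + b.val)) = 0 →
    ∃ p ∈ cand24, p.1 = 28312 + (60 * a.val + b.val) := by decide +kernel

/-- The possible numbers of common neighbours. -/
theorem divisors_m24 {m : ℕ} (h1 : 28312 ≤ m) (h2 : m ≤ 32103) (h : 306936 * 275264 % m = 0) :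
    ∃ p ∈ cand24, p.1 = m := by
  have e : 28312 + (60 * ((m - 28312) / 60) + (m - 28312) % 60) = m := by omega
  have := divisors_m24_aux ⟨(m - 28312) / 60, by omega⟩ ⟨(m - 28312) % 60, by omega⟩
    (by simp only; omega) (by simp only; rw [e]; exact h)
  simp only at this
  rwa [e] at this

theorem cand24_bad : ∀ p ∈ cand24, 0 < srgDisc 306936 31671 p.1 ∧
    ((p.2 : ℤ) ^ 2 ≤ srgDisc 306936 31671 p.1 ∧ srgDisc 306936 31671 p.1 < ((p.2 : ℤ) + 1) ^ 2) ∧
    srgTr (1 + 306936 + 306936 * 275264 / p.1) 306936 31671 p.1 ≠ 0 ∧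
    ¬ ((p.2 : ℤ) ^ 2 = srgDisc 306936 31671 p.1 ∧
      (p.2 : ℤ) ∣ srgTr (1 + 306936 + 306936 * 275264 / p.1) 306936 31671 p.1) := by decide +kernel

/-- No local group is of type M(24). -/
theorem no_local_24 (h : Central D) (hx : x ∈ D) (h24 : IsOfTypeM24 (LocQ D x) (locQSet D x)) : False := by
  have L := counts_m24 h hx h24
  obtain ⟨z, hz, hxz⟩ := h.toBase.two_of_adj hx
  obtain ⟨-, hlo, hhi⟩ := L.connected hx hz hxz bound_m24 (by norm_num)
  have hlo' := hlo (h.toBase.common_nonempty h.conn hx hz hxz)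
  set mu := (common D x z).ncard with hmu
  have hk := L.deg x hx
  have hlam : ∀ v ∈ adj D x, (common D x v).ncard = 31671 := L.edge x hx
  have hcount := h.toBase.count h.conn hx ⟨hz, hxz⟩ hk hlam
  rw [← hmu] at hcount
  have hdvd : 306936 * 275264 % mu = 0 := Nat.mod_eq_zero_of_dvd ⟨(nonc D x).ncard, by
    rw [mul_comm mu, ← hcount]⟩
  obtain ⟨p, hp, hpmu⟩ := divisors_m24 hlo' hhi hdvd
  obtain ⟨hpos, hroot, h1, h2⟩ := cand24_bad p hp
  rw [hpmu] at hpos hroot h1 h2
  obtain ⟨l, hl, hs⟩ := h.toBase.srg h.conn hx ⟨hz, hxz⟩ hk hlam hmu.symm hpos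
  have hl' : 306936 * 275264 / mu = l := by
    refine Nat.div_eq_of_eq_mul_left (by omega) ?_
    rw [← hl]
  rw [hl'] at h1 h2
  rcases srg_root p.2 hroot hs with e | e
  exacts [h1 e, h2 e]

end Cfsg.Agent.FischerMain
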