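/-
A set of members that is locally a chart of orthogonal type and has several commuting components.

Main results (namespace `Cfsg.Agent.FischerMain`):
* `comp S v` : the component of `v` in the commuting graph on `S`;
* `PartO3 S n`, `PartO3.comp_locO3` : every component is connected and locally a chart;
* `PartO3.cls`, `PartO3.gq_inj`, `PartO3.gq_comm` : the generated group modulo its centre;
* `PartO3.disconn` : it has a class with trivial cores and disconnected commuting graph.
-/
import Cfsg.Agent.Lib.FischerMain.MChain.Glue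

set_option autoImplicit false

namespace Cfsg.Agent.FischerMain

open Cfsg Cfsg.Agent.ThreeTransRank Cfsg.Agent.ThreeTrans Relation

variable {G : Type*} [Group G] {S : Set G} {n : ℕ}

/-- The component of `v` in the commuting graph on `S`. -/
def comp (S : Set G) (v : G) : Set G :=
  {w | w ∈ S ∧ ReflTransGen (fun a b => a ∈ S ∧ b ∈ S ∧ Commute a b) v w}

theorem comp_subset {v : G} : comp S v ⊆ S := fun _ h => h.1

theorem self_mem_comp {v : G} (hv : v ∈ S) : v ∈ comp S v := ⟨hv, ReflTransGen.refl⟩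

theorem comp_commute {v a b : G} (ha : a ∈ comp S v) (hb : b ∈ S) (hab : Commute a b) : b ∈ comp S v :=
  ⟨hb, ha.2.tail ⟨ha.1, hb, hab⟩⟩

theorem adj_comp {v a : G} (ha : a ∈ comp S v) : adj (comp S v) a = adj S a :=
  Set.ext fun _ => ⟨fun h => ⟨h.1.1, h.2⟩, fun h => ⟨comp_commute ha h.1 h.2.2, h.2⟩⟩

theorem comp_symm {v w : G} (h : ReflTransGen (fun a b => a ∈ S ∧ b ∈ S ∧ Commute a b) v w) :
    ReflTransGen (fun a b => a ∈ S ∧ b ∈ S ∧ Commute a b) w v := by
  induction h with
  | refl => exact ReflTransGen.refl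
  | tail _ h ih => exact (ReflTransGen.single ⟨h.2.1, h.1, h.2.2.symm⟩).trans ih

theorem comp_connected {v : G} : ConnectedComm (comp S v) := by
  have key : ∀ {w}, ReflTransGen (fun a b => a ∈ S ∧ b ∈ S ∧ Commute a b) v w →
      ReflTransGen (fun a b => a ∈ comp S v ∧ b ∈ comp S v ∧ Commute a b) v w := fun {w} h => by
    induction h with
    | refl => exact ReflTransGen.refl
    | tail h1 h2 ih => exact ih.tail ⟨⟨h2.1, h1⟩, ⟨h2.2.1, h1.tail h2⟩, h2.2.2⟩
  intro a ha b hb
  have e : ∀ {p q}, ReflTransGen (fun a b => a ∈ comp S v ∧ b ∈ comp S v ∧ Commute a b) p q →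
      ReflTransGen (fun a b => a ∈ comp S v ∧ b ∈ comp S v ∧ Commute a b) q p := fun h => by
    induction h with
    | refl => exact ReflTransGen.refl
    | tail _ h ih => exact (ReflTransGen.single ⟨h.2.1, h.1, h.2.2.symm⟩).trans ih
  exact (e (key ha.2)).trans (key hb.2)

theorem comp_disjoint {v w : G} (hw : w ∉ comp S v) (hwS : w ∈ S) : Disjoint (comp S v) (comp S w) :=
  Set.disjoint_left.2 fun _ hu hu' => hw ⟨hwS, hu.2.trans (comp_symm hu'.2)⟩

/-- Several components, each locally a chart. -/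
structure PartO3 (S : Set G) (n : ℕ) : Prop where
  set : IsThreeTranspositionSet S
  closed : ∀ a ∈ S, ∀ b ∈ S, a * b * a ∈ S
  stable : ∀ g ∈ Subgroup.closure S, ∀ b ∈ S, g * b * g⁻¹ ∈ S
  five : 5 ≤ n
  loc : ∀ a ∈ S, ∃ (Q : QuadraticForm (ZMod 3) (Fin n → ZMod 3)) (c : ZMod 3) (ψ : (Fin n → ZMod 3) → G),
    Chart3 (adj S a) Q c ψ

/-- Every component is connected and locally a chart. -/
theorem PartO3.comp_locO3 (h : PartO3 S n) {v : G} (hv : v ∈ S) : LocO3 (comp S v) n where
  set := ⟨fun p hp => h.set.1 p hp.1, fun p hp q hq => h.set.2 p hp.1 q hq.1⟩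
  closed a ha b hb := by
    refine ⟨h.closed a ha.1 b hb.1, ?_⟩
    have hab : ReflTransGen (fun p q => p ∈ S ∧ q ∈ S ∧ Commute p q) a b := (comp_symm ha.2).trans hb.2
    have := hab.lift (p := fun p q => p ∈ S ∧ q ∈ S ∧ Commute p q) (fun p => a * p * a⁻¹)
      fun p q hpq => ⟨h.stable a (Subgroup.subset_closure ha.1) p hpq.1,
        h.stable a (Subgroup.subset_closure ha.1) q hpq.2.1, hpq.2.2.map (MulAut.conj a)⟩
    simp only [Function.onFun, mul_inv_cancel_right] at this
    rw [inv_eq h.set ha.1] at this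
    exact ha.2.trans this
  conn := comp_connected
  ne := ⟨v, self_mem_comp hv⟩
  five := h.five
  loc a ha := by rw [adj_comp ha]; exact h.loc a ha.1

namespace PartO3

variable [Finite G] (h : PartO3 S n) (hdisc : ¬ ConnectedComm S)

omit [Finite G] in
include hdisc in
theorem exists_other (v : G) : ∃ w ∈ S, w ∉ comp S v := by
  by_contra hall
  push Not at hall
  exact hdisc fun a ha b hb => (comp_symm (hall a ha).2).trans (hall b hb).2

include h

theorem adj_point {a : G} (ha : a ∈ S) : (adj S a).Nonempty := by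
  obtain ⟨b, hb⟩ := (h.comp_locO3 ha).adj_point (self_mem_comp ha)
  exact ⟨b, (adj_comp (self_mem_comp ha)).subset hb⟩

omit [Finite G] in
theorem conj_of_not_commute {a b : G} (ha : a ∈ S) (hb : b ∈ S) (hab : ¬ Commute a b) :
    IsConj (⟨a, Subgroup.subset_closure ha⟩ : ↥(Subgroup.closure S)) ⟨b, Subgroup.subset_closure hb⟩ := by
  refine isConj_iff.2 ⟨⟨a * b, mul_mem (Subgroup.subset_closure ha) (Subgroup.subset_closure hb)⟩,
    Subtype.ext ?_⟩
  show a * b * a * (a * b)⁻¹ = b
  rw [braid h.set ha hb hab, mul_inv_rev, inv_eq h.set ha, inv_eq h.set hb]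
  simp only [mul_assoc, mul_self_cancel h.set hb, mul_self h.set ha,
    mul_one]

include hdisc

omit [Finite G] in
theorem cls (hne : S.Nonempty) : IsThreeTranspositionClass (genSet S) := by
  obtain ⟨a, ha⟩ := hne
  refine ⟨⟨fun g hg => ?_, fun g hg k hk => ?_⟩, ⟨⟨a, Subgroup.subset_closure ha⟩, ha, ?_⟩,
    Subgroup.closure_closure_coe_preimage (k := S)⟩
  · rw [← Subgroup.orderOf_coe]; exact h.set.1 _ hg
  · rcases h.set.2 _ hg _ hk with e | e
    · exact Or.inl (Subtype.ext e)
    · exact Or.inr (Subtype.ext e)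
  · ext g
    constructor
    · intro hg
      show IsConj _ g
      by_cases hc : Commute a (g : G)
      · have hg' : (g : G) ∈ comp S a := comp_commute (self_mem_comp ha) hg hc
        obtain ⟨w, hw, hw'⟩ := exists_other hdisc a
        exact (h.conj_of_not_commute ha hw fun e => hw' (comp_commute (self_mem_comp ha) hw e)).trans
          (h.conj_of_not_commute hw hg fun e => hw' (comp_commute hg' hw e.symm))
      · exact h.conj_of_not_commute ha hg hc
    · intro hg
      obtain ⟨k, rfl⟩ := isConj_iff.1 (show IsConj (⟨a, Subgroup.subset_closure ha⟩ : ↥(Subgroup.closure S)) g from hg)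
      exact h.stable _ k.2 a ha

omit hdisc in
theorem two (hne : S.Nonempty) : ∃ a ∈ genSet S, ∃ b ∈ genSet S, a ≠ b := by
  obtain ⟨a, ha⟩ := hne
  obtain ⟨b, hb⟩ := h.adj_point ha
  exact ⟨⟨a, Subgroup.subset_closure ha⟩, ha, ⟨b, Subgroup.subset_closure hb.1⟩, hb.1,
    fun e => hb.2.1 (congrArg Subtype.val e).symm⟩

theorem cores (hne : S.Nonempty) : CentralCores ↥(Subgroup.closure S) := by
  have hn := h.five
  refine centralCores_of_separated (group_of_class (h.cls hdisc hne)) (fun a ha b hb hV => ?_)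
    fun a ha b hb hA => ?_
  · by_contra hneq
    have hne' : (a : G) ≠ b := fun e => hneq (Subtype.ext e)
    have hab : Commute (a : G) b := commute_coe_iff.1 ((hV a ha).2 (Commute.refl a)).symm
    obtain ⟨Q, c, ψ, hch⟩ := h.loc a ha
    obtain ⟨s, hs, hbs⟩ := hch.exists_nonc (by omega) (show (b : G) ∈ adj S a from ⟨hb, hne'.symm, hab⟩)
    exact hbs (commute_coe_iff.1 ((hV ⟨s, Subgroup.subset_closure hs.1⟩ hs.1).2 (commute_coe_iff.2 hs.2.2)))
  · by_contra hneq
    have hne' : (a : G) ≠ b := fun e => hneq (Subtype.ext e)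
    have hadj : ∀ {g : G}, g ∈ adj S a → g ∈ adj S b := fun {g} hg => by
      have h1 : (⟨g, Subgroup.subset_closure hg.1⟩ : ↥(Subgroup.closure S)) ∈ adj (genSet S) a :=
        ⟨hg.1, fun e => hg.2.1 (congrArg Subtype.val e), commute_coe_iff.2 hg.2.2⟩
      rw [hA] at h1
      exact ⟨hg.1, fun e => h1.2.1 (Subtype.ext e), commute_coe_iff.1 h1.2.2⟩
    have hab : ¬ Commute (a : G) b := fun e => (hadj (⟨hb, hne'.symm, e⟩ : (b : G) ∈ adj S a)).2.1 rfl
    obtain ⟨t, ht⟩ := h.adj_point ha
    obtain ⟨Q, c, ψ, hch⟩ := h.loc t ht.1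
    obtain ⟨s, hs, hsa, hsca, hscb⟩ := hch.exists_split
      (show (a : G) ∈ adj S t from ⟨ha, ht.2.1.symm, ht.2.2.symm⟩)
      (show (b : G) ∈ adj S t from ⟨hb, (hadj ht).2.1.symm, (hadj ht).2.2.symm⟩) hab
    exact hscb (hadj (⟨hs.1, hsa, hsca.symm⟩ : s ∈ adj S a)).2.2.symm

theorem gq_inj : Set.InjOn (gq S) S := by
  intro a ha b hb e
  have hne : S.Nonempty := ⟨a, ha⟩
  rw [gq_of_mem (Subgroup.subset_closure ha), gq_of_mem (Subgroup.subset_closure hb)] at e
  exact congrArg Subtype.val (mk_inj (h.cls hdisc hne) (h.two hne) (x := ⟨a, _⟩) (y := ⟨b, _⟩) ha hb e)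

theorem gq_comm {a b : G} (ha : a ∈ S) (hb : b ∈ S) : Commute (gq S a) (gq S b) ↔ Commute a b := by
  have hne : S.Nonempty := ⟨a, ha⟩
  rw [gq_of_mem (Subgroup.subset_closure ha), gq_of_mem (Subgroup.subset_closure hb)]
  exact ⟨fun e => commute_coe_iff.1
      (commute_of_commute_mk (h.cls hdisc hne) (h.two hne) (x := ⟨a, _⟩) (y := ⟨b, _⟩) ha hb e),
    fun e => (commute_coe_iff.2 e : Commute (⟨a, Subgroup.subset_closure ha⟩ : ↥(Subgroup.closure S)) ⟨b, _⟩).map _⟩

/-- The generated group modulo its centre has a disconnected class and trivial cores. -/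
theorem disconn (hne : S.Nonempty) :
    IsThreeTranspositionClass (genQSet S) ∧ Subgroup.center (GenQ S) = ⊥ ∧ pCore 2 (GenQ S) = ⊥ ∧
      pCore 3 (GenQ S) = ⊥ ∧ ¬ (commutingGraph (genQSet S)).Connected := by
  have hcls := h.cls hdisc hne
  have hrad := trivialRadical_quotient (group_of_class hcls) (h.cores hdisc hne)
  have hZ := center_eq_bot_of_trivialRadical hrad
  have hcc := centralCores_of_trivialRadical hrad
  refine ⟨class_quotient hcls (h.two hne), hZ, le_bot_iff.1 (hZ ▸ hcc.1), le_bot_iff.1 (hZ ▸ hcc.2),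
    fun hcon => hdisc fun a ha b hb => ?_⟩
  have : Nonempty G := ⟨1⟩
  have hleft : ∀ {p}, p ∈ S → Function.invFunOn (gq S) S (gq S p) = p := fun hp =>
    (h.gq_inj hdisc).leftInvOn_invFunOn hp
  have hpath := ((connected_iff.1 hcon).2 (gq S a) (gq_image.subset ⟨a, ha, rfl⟩) (gq S b)
    (gq_image.subset ⟨b, hb, rfl⟩)).lift (p := fun p q => p ∈ S ∧ q ∈ S ∧ Commute p q)
    (Function.invFunOn (gq S) S) ?_
  · simp only [Function.onFun] at hpath; rwa [hleft ha, hleft hb] at hpath
  · rintro p q ⟨hp, hq, hpq⟩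
    obtain ⟨u, hu, rfl⟩ := gq_image.symm.subset hp
    obtain ⟨w, hw, rfl⟩ := gq_image.symm.subset hq
    simp only [Function.onFun]
    rw [hleft hu, hleft hw]
    exact ⟨hu, hw, (h.gq_comm hdisc hu hw).1 hpq⟩

end PartO3

end Cfsg.Agent.FischerMain
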