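/-
One step up along a set of members that is locally orthogonal.

Main results (namespace `Cfsg.Agent.FischerMain`):
* `LocO3.recognise` : a chart of the set one dimension higher, with its discriminant;
* `image_common_adj` : the common neighbours of a pair near a third member, seen near another member.
-/
import Cfsg.Agent.Lib.FischerMain.O3.Main
import Cfsg.Agent.Lib.FischerMain.MChain.Glue

set_option autoImplicit false

namespace Cfsg.Agent.FischerMain

open Cfsg Cfsg.Agent.ThreeTransRank Cfsg.Agent.ThreeTrans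

variable {G : Type*} [Group G] [Finite G]

/-- A chart at one member of the set gives a chart of the set. -/
theorem LocO3.recognise {S : Set G} {n : ℕ} (h : LocO3 S n) {v : G} (hv : v ∈ S)
    {Q : QuadraticForm (ZMod 3) (Fin n → ZMod 3)} {c : ZMod 3} {ψ : (Fin n → ZMod 3) → G}
    (hch : Chart3 (adj S v) Q c ψ) :
    ∃ (Q' : QuadraticForm (ZMod 3) (Fin (n + 1) → ZMod 3)) (ψ' : (Fin (n + 1) → ZMod 3) → G),
      Chart3 S Q' c ψ' ∧ polarGramDet ⇑Q' = 2 * c * polarGramDet ⇑Q := by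
  obtain ⟨h1, h2⟩ := h.chart hv hch
  obtain ⟨Q', ψ', h3, h4⟩ := o3_recognition h.base h.conn' h.five h1 h2
  obtain ⟨φ, hφ⟩ := h.pull h3
  exact ⟨Q', φ, hφ, h4⟩

/-- The members near `v = g x g⁻¹` commuting with `a` and `b` come from those near `x`. -/
theorem image_common_adj {D : Set G} (h : Base D) (g : G) {x a b : G} (ha : a ∈ D) (hb : b ∈ D)
    (hv : g * x * g⁻¹ ∈ common D a b) (hab : ¬ Commute a b) :
    g⁻¹ * a * g ∈ adj D x ∧ g⁻¹ * b * g ∈ adj D x ∧ ¬ Commute (g⁻¹ * a * g) (g⁻¹ * b * g) ∧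
      adj (common D a b) (g * x * g⁻¹) = MulAut.conj g ''
        {y | y ∈ adj D x ∧ Commute (g⁻¹ * a * g) y ∧ Commute (g⁻¹ * b * g) y} := by
  have key : ∀ {p : G}, p ∈ D → g * x * g⁻¹ ∈ adj D p → g⁻¹ * p * g ∈ adj D x := fun {p} hp hv' =>
    (conj_adj h.conj g x p).1 ⟨hp, hv'.2.1.symm, hv'.2.2.symm⟩
  have cc : ∀ p y : G, Commute (g⁻¹ * p * g) y ↔ Commute p (g * y * g⁻¹) := fun p y => by
    rw [← commute_conj_iff g, show g * (g⁻¹ * p * g) * g⁻¹ = p by group]
  refine ⟨key ha hv.1, key hb hv.2, fun e => hab ?_, ?_⟩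
  · rw [cc, show g * (g⁻¹ * b * g) * g⁻¹ = b by group] at e
    exact e
  rw [adj_common hv]
  ext p
  constructor
  · rintro ⟨hp, hpv⟩
    have e : g * (g⁻¹ * p * g) * g⁻¹ = p := by group
    refine ⟨g⁻¹ * p * g, ⟨(conj_adj h.conj g x p).1 hpv, (cc _ _).2 ?_, (cc _ _).2 ?_⟩, e⟩
    · rw [e]; exact hp.1.2.2
    · rw [e]; exact hp.2.2.2
  · rintro ⟨y, ⟨hy, h1, h2⟩, rfl⟩
    rw [MulAut.conj_apply]
    exact ⟨(mem_common_iff hab).2 ⟨h.conj g y hy.1, (cc _ _).1 h1, (cc _ _).1 h2⟩,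
      (conj_adj_iff h.conj g).2 hy⟩

end Cfsg.Agent.FischerMain
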