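/-
Charts of unitary type: the group generated, the counts in dimension six, and the points orthogonal to a
hyperbolic pair.

Main results (namespace `Cfsg.Agent.FischerMain`):
* `ChartU.quotEquivPSU` : the group generated, modulo its centre, is `PSU(n,2)`;
* `ChartU.counts` : a class with a local chart of dimension six has local counts 693, 180, 51, 45;
* `ChartU.perp_chart` : the points orthogonal to two non-orthogonal points of a six-space form a chart of a
  four-space.
-/
import Cfsg.Agent.Lib.FischerMain.MChain.Count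
import Cfsg.Agent.Lib.FischerMain.Defs
import Cfsg.Agent.Lib.FischerM22.Counts
import Cfsg.Agent.Lib.ThreeTransSU.Class
import Cfsg.Agent.Lib.TransCentFi22.Reflections

set_option autoImplicit false

namespace Cfsg.Agent.FischerMain

open Cfsg Cfsg.Agent.ThreeTrans Cfsg.Agent.ThreeTransSU Cfsg.Agent.U62Cover Cfsg.Agent.Unitary

variable {G : Type*} [Group G] {F : Type} [Field F] [Fintype F] {n : ℕ}

namespace ChartU

variable {X : Set G} {pt : (Fin n → F) → G} (h : ChartU X pt)
include h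

theorem smul_pt {v : Fin n → F} {a : F} (hv : Iso v) (ha : a ≠ 0) : pt (a • v) = pt v :=
  ((h.eq_iff v (a • v) hv (hv.smul h.card ha)).2 ⟨a, ha, rfl⟩).symm

/-- The group generated, modulo its centre. -/
theorem quotEquivPSU [Finite G] (hn : 4 ≤ n) (hsq : ∀ a ∈ X, a * a = 1) :
    Nonempty (↥(Subgroup.closure X) ⧸ Subgroup.center ↥(Subgroup.closure X) ≃* Cfsg.PSU n F 2) := by
  classical
  have hF := h.card
  choose v hv hp using fun i : ↥X => h.surj i.1 i.2
  let a : ↥X → ↥(Subgroup.closure X) := fun i => ⟨i.1, Subgroup.subset_closure i.2⟩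
  let b : ↥X → Cfsg.SU n F 2 := fun i => tv hF (v i)
  have hw : ∀ i j : ↥X, Iso (act (tv hF (v i)) (v j)) := fun i j => (hv j).act _
  let t : ↥X → ↥X → ↥X := fun i j => ⟨pt (act (tv hF (v i)) (v j)), h.mem _ (hw i j)⟩
  have hsame : ∀ (i : ↥X) (w : Fin n → F), Iso w → pt w = i.1 → tv hF w = tv hF (v i) := by
    intro i w hw' e
    obtain ⟨c, hc, rfl⟩ := (h.eq_iff (v i) w (hv i) hw').1 ((hp i).trans e.symm)
    exact tv_smul hF (hv i) hc
  have ha : Function.Injective a := fun i j e =>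
    Subtype.ext (congrArg (fun z : ↥(Subgroup.closure X) => (z : G)) e)
  have hb : Function.Injective b := fun i j e => Subtype.ext (by
    rw [← hp i, ← hp j]
    exact (h.eq_iff _ _ (hv i) (hv j)).2 (tv_inj hF (hv i) (hv j) e))
  have hga : Subgroup.closure (Set.range a) = ⊤ := by
    have : Set.range a = {g : ↥(Subgroup.closure X) | (g : G) ∈ X} := by
      ext g
      exact ⟨by rintro ⟨i, rfl⟩; exact i.2, fun hh => ⟨⟨g, hh⟩, rfl⟩⟩
    rw [this]
    exact Subgroup.closure_closure_coe_preimage (k := X)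
  have hgb : Subgroup.closure (Set.range b) = ⊤ := by
    rw [eq_top_iff, ← closure_tv hF hn]
    refine Subgroup.closure_mono ?_
    rintro _ ⟨w, hw', rfl⟩
    exact ⟨⟨pt w, h.mem w hw'⟩, (hsame _ w hw' rfl).symm⟩
  have ht : ∀ i j, a i * a j * (a i)⁻¹ = a (t i j) := fun i j => by
    apply Subtype.ext
    show (i : G) * (j : G) * (i : G)⁻¹ = pt (act (tv hF (v i)) (v j))
    rw [inv_eq_of_mul_eq_one_right (hsq _ i.2), ← h.conj _ _ (hv i) (hv j), hp i, hp j]
  have ht' : ∀ i j, b i * b j * (b i)⁻¹ = b (t i j) := fun i j => by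
    show tv hF (v i) * tv hF (v j) * (tv hF (v i))⁻¹ = tv hF (v (t i j))
    rw [tv_conj_inv hF _ (hv j).2]
    exact hsame (t i j) _ (hw i j) rfl
  have hT : ∀ i, Function.Bijective (t i) := fun i => by
    refine Finite.injective_iff_bijective.1 fun j k e => hb ?_
    have := (ht' i j).trans ((congrArg b e).trans (ht' i k).symm)
    exact mul_left_cancel (mul_right_cancel this)
  exact TransCentFi22.quotient_center_equiv a b ha hb hga hgb t ht ht' hT

end ChartU

/-- The point model behind a chart of dimension six. -/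
theorem ChartU.pointModel {D : Set G} (hsq : ∀ a ∈ D, a * a = 1) {x : G} {pt : (Fin 6 → F) → G}
    (h : ChartU (adj D x) pt) : PointModel D x pt := by
  refine ⟨h.card, h.mem, h.surj, fun v c hv hc => h.smul_pt hv hc,
    fun u v hu hv e => (h.eq_iff u v hu hv).1 e, h.comm, fun L hL e y hy => ?_⟩
  obtain ⟨w, hw, rfl⟩ := h.surj y hy
  have key : ∀ L : List (Fin 6 → F), (∀ p ∈ L, Iso p) → ∀ v, Iso v →
      (L.map pt).prod * pt v * (L.map pt).prod⁻¹ = pt (act (L.map (tv h.card)).prod v) := by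
    intro L
    induction L with
    | nil => intro _ v _; simp [act_one]
    | cons p L ih =>
      intro hL v hv
      have hp := hL p List.mem_cons_self
      have ih' := ih (fun q hq => hL q (List.mem_cons_of_mem _ hq)) v hv
      rw [List.map_cons, List.prod_cons, List.map_cons, List.prod_cons, act_mul,
        ← h.conj p _ hp (hv.act _), ← ih', mul_inv_rev,
        inv_eq_of_mul_eq_one_right (hsq _ (h.mem p hp).1)]
      simp only [mul_assoc]
  have h1 := key L hL w hw
  rw [e, act_one, mul_inv_eq_iff_eq_mul] at h1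
  exact h1.symm

section Counts

variable [Finite G] {D : Set G} {a : G} {pt : (Fin 6 → F) → G} (M : PointModel D a pt)
include M

open Cfsg.Agent.FischerM22 in
theorem pm_deg : (adj D a).ncard = 693 := by
  have h := card_pts M fun _ => True
  simp only [and_true, Set.ofPred_mem_eq] at h
  rw [count_iso M.card] at h
  omega

open Cfsg.Agent.FischerM22 in
theorem pm_edge {b : G} (hb : b ∈ adj D a) : (adj D a ∩ adj D b).ncard = 180 := by
  obtain ⟨u, hu, rfl⟩ := M.surj b hb
  have h := card_pts M fun y => Commute y (pt u)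
  rw [show Nat.card {v : Fin 6 → F // Iso v ∧ Commute (pt v) (pt u)}
      = Nat.card {v : Fin 6 → F // Iso v ∧ hf v u = 0} from
    Nat.card_congr (Equiv.subtypeEquivRight fun v => and_congr_right fun hv => M.comm v u hv hu),
    count_perp M.card hu] at h
  have e : {y | y ∈ adj D a ∧ Commute y (pt u)} = insert (pt u) (adj D a ∩ adj D (pt u)) := by
    ext y
    constructor
    · rintro ⟨hy, hc⟩
      by_cases h1 : y = pt u
      · exact Or.inl h1
      · exact Or.inr ⟨hy, hy.1, h1, hc.symm⟩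
    · rintro (rfl | ⟨hy, hy'⟩)
      exacts [⟨hb, Commute.refl _⟩, ⟨hy, hy'.2.2.symm⟩]
  rw [e, Set.ncard_insert_of_notMem (fun h => h.2.2.1 rfl)] at h
  omega

open Cfsg.Agent.FischerM22 in
theorem pm_far {x y : G} (hx : x ∈ adj D a) (hy : y ∈ adj D a) (hxy : ¬ Commute x y) :
    (adj D a ∩ adj D x ∩ adj D y).ncard = 45 := by
  obtain ⟨u, hu, rfl⟩ := M.surj x hx
  obtain ⟨w, hw, rfl⟩ := M.surj y hy
  have h := card_pts M fun z => Commute z (pt u) ∧ Commute z (pt w)
  rw [show Nat.card {v : Fin 6 → F // Iso v ∧ Commute (pt v) (pt u) ∧ Commute (pt v) (pt w)}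
      = Nat.card {v : Fin 6 → F // Iso v ∧ hf v u = 0 ∧ hf v w = 0} from
    Nat.card_congr (Equiv.subtypeEquivRight fun v => and_congr_right fun hv =>
      and_congr (M.comm v u hv hu) (M.comm v w hv hw)),
    count_hyp M.card hu hw (fun e => hxy ((M.comm u w hu hw).2 e))] at h
  have e : {z | z ∈ adj D a ∧ Commute z (pt u) ∧ Commute z (pt w)}
      = adj D a ∩ adj D (pt u) ∩ adj D (pt w) := by
    ext z
    constructor
    · rintro ⟨hz, h1, h2⟩
      exact ⟨⟨hz, hz.1, fun e => hxy (e ▸ h2), h1.symm⟩, hz.1, fun e => hxy (e ▸ h1).symm, h2.symm⟩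
    · rintro ⟨⟨hz, h1⟩, h2⟩
      exact ⟨hz, h1.2.2.symm, h2.2.2.symm⟩
  rw [e] at h
  omega

open Cfsg.Agent.FischerM22 in
theorem pm_triple {x y : G} (hx : x ∈ adj D a) (hy : y ∈ adj D a) (hne : x ≠ y) (hxy : Commute x y) :
    (adj D a ∩ adj D x ∩ adj D y).ncard = 51 := by
  obtain ⟨u, hu, rfl⟩ := M.surj x hx
  obtain ⟨w, hw, rfl⟩ := M.surj y hy
  have hP : OrthPair u w := ⟨hu, hw, (M.comm u w hu hw).1 hxy, fun c e => hne (by
    rw [e, M.smul u c hu fun h0 => hw.1 (by rw [e, h0, zero_smul])])⟩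
  have h := card_pts M fun z => Commute z (pt u) ∧ Commute z (pt w)
  rw [show Nat.card {v : Fin 6 → F // Iso v ∧ Commute (pt v) (pt u) ∧ Commute (pt v) (pt w)}
      = Nat.card {v : Fin 6 → F // Iso v ∧ hf v u = 0 ∧ hf v w = 0} from
    Nat.card_congr (Equiv.subtypeEquivRight fun v => and_congr_right fun hv =>
      and_congr (M.comm v u hv hu) (M.comm v w hv hw)),
    count_orth M.card hP] at h
  have e : {z | z ∈ adj D a ∧ Commute z (pt u) ∧ Commute z (pt w)}
      = insert (pt u) (insert (pt w) (adj D a ∩ adj D (pt u) ∩ adj D (pt w))) := by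
    ext z
    constructor
    · rintro ⟨hz, h1, h2⟩
      by_cases e1 : z = pt u
      · exact Or.inl e1
      by_cases e2 : z = pt w
      · exact Or.inr (Or.inl e2)
      exact Or.inr (Or.inr ⟨⟨hz, hz.1, e1, h1.symm⟩, hz.1, e2, h2.symm⟩)
    · rintro (rfl | rfl | ⟨⟨hz, h1⟩, h2⟩)
      exacts [⟨hx, Commute.refl _, hxy⟩, ⟨hy, hxy.symm, Commute.refl _⟩, ⟨hz, h1.2.2.symm, h2.2.2.symm⟩]
  rw [e, Set.ncard_insert_of_notMem (by
      rintro (h | ⟨⟨-, h⟩, -⟩)
      exacts [hne h, h.2.1 rfl]),
    Set.ncard_insert_of_notMem (fun h => h.2.2.1 rfl)] at h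
  omega

end Counts

/-- The local counts of a class with a local chart of dimension six. -/
theorem ChartU.counts [Finite G] {D : Set G} (hD : IsThreeTranspositionClass D) {x : G} (hx : x ∈ D)
    {pt : (Fin 6 → F) → G} (h : ChartU (adj D x) pt) : LocalCounts D 693 180 51 45 := by
  have M := h.pointModel fun a ha => mul_self hD.1 ha
  exact .of_point hD hx (pm_deg M) (fun b hb => pm_edge M hb)
    (fun a ha b hb hne hc => pm_triple M ha hb hne hc) fun a ha b hb hc => pm_far M ha hb hc

/-- The points orthogonal to two non-orthogonal points. -/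
theorem ChartU.perp_chart [Finite G] {X : Set G} {pt : (Fin 6 → F) → G} (h : ChartU X pt) {a b : G}
    (ha : a ∈ X) (hb : b ∈ X) (hab : ¬ Commute a b) :
    ∃ pt' : (Fin 4 → F) → G, ChartU {y | y ∈ X ∧ Commute a y ∧ Commute b y} pt' := by
  classical
  have hF := h.card
  obtain ⟨u, hu, rfl⟩ := h.surj a ha
  obtain ⟨w, hw, rfl⟩ := h.surj b hb
  have huw : hf u w ≠ 0 := fun e => hab ((h.comm u w hu hw).2 e)
  have hwu : hf w u ≠ 0 := fun e => huw ((hf_eq_zero_symm hF).1 e)
  set W := perp hF ![u, w] with hWdef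
  have hmem : ∀ y, y ∈ W ↔ hf y u = 0 ∧ hf y w = 0 := fun y => by
    rw [hWdef, mem_perp]
    exact ⟨fun e => ⟨e 0, e 1⟩, fun e i => by fin_cases i; exacts [e.1, e.2]⟩
  have hrank : Module.finrank F W = 4 := by
    have := finrank_perp hF (u := ![u, w]) (FischerM22.li_of_not_orth hF hu huw)
    rw [hWdef]; omega
  have H : IsHerm 2 fun p q : W => hf (p : Fin 6 → F) q := (herm hF).comap W.subtype
  have hnd : Nondeg fun p q : W => hf (p : Fin 6 → F) q := by
    intro p hp
    refine Subtype.ext (hermForm_nondeg (card_sq hF) 6 _ fun y => ?_)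
    have hp' := (hmem _).1 p.2
    set y' := y + (hf y w / hf u w) • u + (hf y u / hf w u) • w with hy'
    have hy : y' ∈ W := by
      rw [hmem, hy']
      constructor <;>
        rw [hf_add_left hF, hf_add_left hF, hf_smul_left hF, hf_smul_left hF]
      · rw [hu.2, div_mul_cancel₀ _ hwu, mul_zero, add_zero, add_self hF]
      · rw [hw.2, div_mul_cancel₀ _ huw, mul_zero, add_zero, add_self hF]
    have h0 : hf (p : Fin 6 → F) y' = 0 := hp ⟨y', hy⟩
    rw [hy', hf_add_right hF, hf_add_right hF, hf_smul_right hF, hf_smul_right hF, hp'.1, hp'.2, mul_zero,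
      mul_zero, add_zero, add_zero] at h0
    exact h0
  obtain ⟨o, ho⟩ := exists_orthonormalBasis (card_sq hF) H hnd
  set e : Fin 4 → Fin 6 → F := fun i => (o (Fin.cast hrank.symm i) : Fin 6 → F) with hedef
  have he : ∀ i j, hf (e i) (e j) = if i = j then 1 else 0 := fun i j => by
    by_cases hij : i = j
    · subst hij; rw [if_pos rfl]; exact ho.1 _
    · rw [if_neg hij]; exact ho.2 fun h' => hij (Fin.cast_injective _ h')
  let ι : (Fin 4 → F) →ₗ[F] (Fin 6 → F) := Fintype.linearCombination F e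
  have hι : ∀ x, ι x = ∑ i, x i • e i := fun x => Fintype.linearCombination_apply F e x
  have hW : ∀ x, ι x ∈ W := fun x => by
    rw [hι]; exact Submodule.sum_mem _ fun i _ => Submodule.smul_mem _ _ (o _).2
  have hhf : ∀ x y, hf (ι x) (ι y) = hf x y := fun x y => by
    rw [hι, hι]
    show Cfsg.hermForm 6 F 2 _ _ = _
    rw [(herm hF).sum_left]
    refine Finset.sum_congr rfl fun i _ => ?_
    rw [(herm hF).sum_right (card_sq hF), Finset.sum_eq_single i]
    · rw [(herm hF).smul_left, (herm hF).smul_right, show Cfsg.hermForm 6 F 2 (e i) (e i) = 1 by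
        rw [show Cfsg.hermForm 6 F 2 (e i) (e i) = hf (e i) (e i) from rfl, he, if_pos rfl], mul_one]
    · intro j _ hj
      rw [(herm hF).smul_left, (herm hF).smul_right, show Cfsg.hermForm 6 F 2 (e i) (e j) = 0 by
        rw [show Cfsg.hermForm 6 F 2 (e i) (e j) = hf (e i) (e j) from rfl, he, if_neg (Ne.symm hj)],
        mul_zero, mul_zero]
    · exact fun hh => absurd (Finset.mem_univ _) hh
  have hinj : Function.Injective ι := by
    rw [injective_iff_map_eq_zero]
    intro x hx
    refine hermForm_nondeg (card_sq hF) 4 _ fun y => ?_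
    show hf x y = 0
    rw [← hhf, hx, hf_zero_left hF]
  have hsur : ∀ y ∈ W, ∃ x, ι x = y := by
    have hr : LinearMap.range ι = W := by
      refine Submodule.eq_of_le_of_finrank_eq (by rintro _ ⟨x, rfl⟩; exact hW x) ?_
      rw [LinearMap.finrank_range_of_inj hinj, Module.finrank_fin_fun, hrank]
    intro y hy
    rw [← hr] at hy
    exact hy
  have hiso : ∀ v, Iso (ι v) ↔ Iso v := fun v => by
    show ι v ≠ 0 ∧ hf (ι v) (ι v) = 0 ↔ v ≠ 0 ∧ hf v v = 0
    rw [hhf, map_ne_zero_iff _ hinj]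
  have hact : ∀ p v, Iso p → act (tv hF (ι p)) (ι v) = ι (act (tv hF p) v) := fun p v hp => by
    rw [act_tv hF ((hiso p).2 hp).2, act_tv hF hp.2, map_add, map_smul, hhf]
  have hXmem : ∀ v, Iso v → pt (ι v) ∈ {y | y ∈ X ∧ Commute (pt u) y ∧ Commute (pt w) y} := fun v hv =>
    have h' := (hmem _).1 (hW v)
    ⟨h.mem _ ((hiso v).2 hv), (h.comm u _ hu ((hiso v).2 hv)).2 ((hf_eq_zero_symm hF).1 h'.1),
      (h.comm w _ hw ((hiso v).2 hv)).2 ((hf_eq_zero_symm hF).1 h'.2)⟩
  refine ⟨fun v => pt (ι v), hF, hXmem, ?_, fun p q hp hq => ?_, fun p q hp hq => ?_,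
    fun p q hp hq => ?_, fun g => ?_⟩
  · rintro y ⟨hy, h1, h2⟩
    obtain ⟨v, hv, rfl⟩ := h.surj y hy
    obtain ⟨x, rfl⟩ := hsur v ((hmem v).2 ⟨(hf_eq_zero_symm hF).1 ((h.comm u v hu hv).1 h1),
      (hf_eq_zero_symm hF).1 ((h.comm w v hw hv).1 h2)⟩)
    exact ⟨x, (hiso x).1 hv, rfl⟩
  · rw [h.eq_iff _ _ ((hiso p).2 hp) ((hiso q).2 hq)]
    refine exists_congr fun a => and_congr_right fun _ => ?_
    rw [← map_smul, hinj.eq_iff]
  · rw [h.comm _ _ ((hiso p).2 hp) ((hiso q).2 hq), hhf]
  · rw [h.conj _ _ ((hiso p).2 hp) ((hiso q).2 hq), hact p q hp]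
  · set S := {y | y ∈ X ∧ Commute (pt u) y ∧ Commute (pt w) y}
    suffices hall : g ∈ Subgroup.closure {A : Cfsg.SU 4 F 2 | ∃ v, Iso v ∧ A = tv hF v} →
        ∃ k ∈ Subgroup.closure S, ∀ v, Iso v → k * pt (ι v) * k⁻¹ = pt (ι (act g v)) from
      hall (by rw [closure_tv hF le_rfl]; exact Subgroup.mem_top g)
    intro hg
    induction hg using Subgroup.closure_induction with
    | mem A hA =>
      obtain ⟨p, hp, rfl⟩ := hA
      obtain ⟨k, hk, hkv⟩ := h.realise (tv hF (ι p))
      refine ⟨pt (ι p), Subgroup.subset_closure (hXmem p hp), fun v hv => ?_⟩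
      have hP := (hiso p).2 hp
      have hinv : pt (ι p) * pt (ι p) * pt (ι p) = pt (ι p) := by
        rw [h.conj _ _ hP hP, act_tv_self hF hP.2]
      rw [inv_eq_of_mul_eq_one_right (mul_right_cancel (hinv.trans (one_mul _).symm)),
        h.conj _ _ hP ((hiso v).2 hv), hact p v hp]
    | one => exact ⟨1, one_mem _, fun v _ => by simp [act_one]⟩
    | mul A B _ _ hA hB =>
      obtain ⟨k, hk, hkv⟩ := hA
      obtain ⟨l, hl, hlv⟩ := hB
      refine ⟨k * l, mul_mem hk hl, fun v hv => ?_⟩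
      rw [act_mul, ← hkv _ (hv.act B), ← hlv v hv]
      group
    | inv A _ hA =>
      obtain ⟨k, hk, hkv⟩ := hA
      refine ⟨k⁻¹, inv_mem hk, fun v hv => ?_⟩
      have e := hkv _ (hv.act A⁻¹)
      rw [act_act_inv] at e
      rw [← e]; group

end Cfsg.Agent.FischerMain
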