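/-
The step from a unitary local group of dimension six to type M(22).

Main results (namespace `Cfsg.Agent.FischerMain`):
* `common_chart22` : the common neighbours of two non-commuting members are a chart of dimension six,
  discriminant one;
* `type22_of_local`.
-/
import Cfsg.Agent.Lib.FischerMain.MChain.Step
import Cfsg.Agent.Lib.FischerMain.MChain.Unitary
import Cfsg.Agent.Lib.FischerMain.MChain.Det
import Cfsg.Agent.Lib.FischerMain.Unitary.FiveThree

set_option autoImplicit false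

namespace Cfsg.Agent.FischerMain

open Cfsg Cfsg.Agent.ThreeTransRank Cfsg.Agent.ThreeTrans Cfsg.Agent.ThreeTransSU

variable {G : Type*} [Group G] [Finite G] {D : Set G} {F : Type} [Field F] [Fintype F] {x : G}
  {pt : (Fin 6 → F) → G}

/-- The common neighbours of two non-commuting members, for a unitary local chart of dimension six. -/
theorem common_chart22 (h : Base D) (hconn : ConnectedComm D) (hx : x ∈ D) (hch : ChartU (adj D x) pt)
    {a b : G} (ha : a ∈ D) (hb : b ∈ D) (hab : ¬ Commute a b) :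
    ∃ (Q : QuadraticForm (ZMod 3) (Fin 6 → ZMod 3)) (c : ZMod 3) (ψ : (Fin 6 → ZMod 3) → G),
      Chart3 (common D a b) Q c ψ ∧ polarGramDet ⇑Q = 1 := by
  have L := hch.counts h.cls hx
  obtain ⟨hconnM, -, -⟩ := L.connected ha hb hab bound_six (by norm_num)
  have loc : ∀ v ∈ common D a b, ∃ (Q : QuadraticForm (ZMod 3) (Fin 5 → ZMod 3))
      (ψ : (Fin 5 → ZMod 3) → G), Chart3 (adj (common D a b) v) Q 1 ψ ∧ polarGramDet ⇑Q = 2 := by
    intro v hv
    obtain ⟨g, rfl⟩ := class_conj h.cls hx hv.1.1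
    obtain ⟨ha', hb', hab', himg⟩ := image_common_adj h g ha hb hv hab
    obtain ⟨pt', hpt'⟩ := hch.perp_chart ha' hb' hab'
    obtain ⟨Q, ψ, hψ⟩ := hpt'.chart3_four
    refine ⟨Q, _, himg ▸ hψ.map_conj g, ?_⟩
    rw [hψ.det_of_ncard ?_, mul_one]
    rw [← L.far x hx _ ha' _ hb' hab']
    congr 1
    ext y
    constructor
    · rintro ⟨hy, h1, h2⟩
      exact ⟨⟨hy, hy.1, fun e => hab' (e ▸ h2).symm, h1⟩, hy.1, fun e => hab' (e ▸ h1), h2⟩
    · rintro ⟨⟨hy, h1⟩, h2⟩
      exact ⟨hy, h1.2.2, h2.2.2⟩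
  obtain ⟨v, hv⟩ := h.common_nonempty hconn ha hb hab
  have hM : LocO3 (common D a b) 5 :=
    { set := ⟨fun p hp => h.set.1 p hp.1.1, fun p hp q hq => h.set.2 p hp.1.1 q hq.1.1⟩
      closed := common_closed h.set h.conj
      conn := hconnM
      ne := ⟨v, hv⟩
      five := le_rfl
      loc := fun w hw => by
        obtain ⟨Q, ψ, hψ, -⟩ := loc w hw
        exact ⟨Q, 1, ψ, hψ⟩ }
  obtain ⟨Q, ψ, hψ, hd⟩ := loc v hv
  obtain ⟨Q', ψ', hψ', hd'⟩ := hM.recognise hv hψ
  exact ⟨Q', 1, ψ', hψ', by rw [hd', hd]; decide⟩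

/-- A unitary local group of dimension six gives type M(22). -/
theorem type22_of_local (h : Central D) (hx : x ∈ D) (hch : ChartU (adj D x) pt) : IsOfTypeM22 G D := by
  obtain ⟨z, hz, hxz⟩ := h.toBase.two_of_adj hx
  obtain ⟨Q, c, ψ, hψ, hd⟩ := common_chart22 h.toBase h.conn hx hch hx hz hxz
  exact ⟨h.center, x, hx, z, hz, hxz,
    ⟨F, inferInstance, inferInstance, hch.card,
      hch.quotEquivPSU (by norm_num) fun a ha => mul_self h.set ha.1⟩,
    c, hψ.c_ne, hψ.projRefl (fun a ha => mul_self h.set ha.1.1) hd⟩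

end Cfsg.Agent.FischerMain
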