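/-
The step from a local group of type M(22) to type M(23).

Main results (namespace `Cfsg.Agent.FischerMain`):
* `exists_chartU_of_setup` : a group of type M(22) has unitary charts of dimension six;
* `common_chart23` : the common neighbours of two non-commuting members are a chart of dimension seven;
* `type23_of_local`.
-/
import Cfsg.Agent.Lib.FischerMain.MChain.Type22
import Cfsg.Agent.Lib.FischerM23.Local
import Cfsg.Agent.Lib.FischerM22.LocModel

set_option autoImplicit false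

namespace Cfsg.Agent.FischerMain

open Cfsg Cfsg.Agent.ThreeTransRank Cfsg.Agent.ThreeTrans Cfsg.Agent.ThreeTransSU
open Cfsg.Agent.FischerM23 (qm qm_of_mem qset_eq qm_mul mem_loc_of_adj)

variable {G : Type*} [Group G] [Finite G] {D : Set G} {x : G}

/-- A group of type M(22) has a unitary chart of dimension six at each member. -/
theorem exists_chartU_of_setup (S : FischerM22.Fi22Setup D) {a : G} (ha : a ∈ D) :
    ∃ (F : Type) (_ : Field F) (_ : Fintype F) (pt : (Fin 6 → F) → G), ChartU (adj D a) pt := by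
  obtain ⟨F, iF, iT, pt, θ, L⟩ := FischerM22.exists_locModel S ha
  refine ⟨F, iF, iT, pt, L.M.card, L.M.mem, L.M.surj, fun u v hu hv => ⟨L.M.inj u v hu hv, ?_⟩,
    L.M.comm, fun u v hu hv => ?_, fun g => ?_⟩
  · rintro ⟨c, hc, rfl⟩
    exact (L.M.smul u c hu hc).symm
  · have e := L.conj_pt S ha (h := ⟨pt u, Subgroup.subset_closure (L.M.mem u hu)⟩)
      (L.image u hu _) hv
    rwa [inv_eq S.cls.1 (L.M.mem u hu).1] at e
  · obtain ⟨k, hk⟩ := L.realise S ha g
    exact ⟨k, k.2, hk⟩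

namespace Central

theorem qm_injOn (h : Central D) (hx : x ∈ D) : Set.InjOn (qm D x) (adj D x) := by
  intro a ha b hb e
  rw [qm_of_mem (mem_loc_of_adj ha), qm_of_mem (mem_loc_of_adj hb)] at e
  exact h.lift_eq hx ha hb e

theorem qm_commute_iff (h : Central D) (hx : x ∈ D) {a b : G} (ha : a ∈ adj D x) (hb : b ∈ adj D x) :
    Commute (qm D x a) (qm D x b) ↔ Commute a b := by
  rw [qm_of_mem (mem_loc_of_adj ha), qm_of_mem (mem_loc_of_adj hb)]
  exact h.lift_comm hx ha hb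

theorem qm_adj_image (h : Central D) (hx : x ∈ D) {a : G} (ha : a ∈ adj D x) :
    qm D x a ∈ locQSet D x ∧
      adj (locQSet D x) (qm D x a) = qm D x '' (adj D x ∩ adj D a) := by
  have e : locQSet D x = qm D x '' adj D x := qset_eq x
  refine ⟨e ▸ ⟨a, ha, rfl⟩, ?_⟩
  ext q
  rw [e]
  constructor
  · rintro ⟨⟨y, hy, rfl⟩, hne, hc⟩
    exact ⟨y, ⟨hy, hy.1, fun e => hne (e ▸ rfl), (h.qm_commute_iff hx ha hy).1 hc⟩, rfl⟩
  · rintro ⟨y, ⟨hy, -, hne, hc⟩, rfl⟩
    exact ⟨⟨y, hy, rfl⟩, fun e => hne (h.qm_injOn hx hy ha e), (h.qm_commute_iff hx ha hy).2 hc⟩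

theorem qm_common_image (h : Central D) (hx : x ∈ D) {a b : G} (ha : a ∈ adj D x) (hb : b ∈ adj D x) :
    common (locQSet D x) (qm D x a) (qm D x b) = qm D x '' (adj D x ∩ adj D a ∩ adj D b) := by
  rw [common, (h.qm_adj_image hx ha).2, (h.qm_adj_image hx hb).2,
    ← (h.qm_injOn hx).image_inter Set.inter_subset_left Set.inter_subset_left,
    ← Set.inter_inter_distrib_left, Set.inter_assoc]

theorem qm_ncard_image (h : Central D) (hx : x ∈ D) {s : Set G} (hs : s ⊆ adj D x) :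
    (qm D x '' s).ncard = s.ncard :=
  Set.InjOn.ncard_image ((h.qm_injOn hx).mono hs)

theorem setup22 (h : Central D) (hx : x ∈ D) (h22 : IsOfTypeM22 (LocQ D x) (locQSet D x)) :
    FischerM22.Fi22Setup (locQSet D x) :=
  ⟨(h.base_local hx).cls, (h.base_local hx).cores, h.conn_local hx, h22⟩

/-- The local counts over a local group of type M(22). -/
theorem counts22 (h : Central D) (hx : x ∈ D) (h22 : IsOfTypeM22 (LocQ D x) (locQSet D x)) :
    LocalCounts D 3510 693 180 126 := by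
  have S := h.setup22 hx h22
  refine .of_point h.cls hx ?_ (fun b hb => ?_) (fun a ha b hb hne hc => ?_) fun a ha b hb hc => ?_
  · rw [← h.qm_ncard_image hx subset_rfl, ← qset_eq]
    exact FischerM22.class_ncard S
  · obtain ⟨h1, h2⟩ := h.qm_adj_image hx hb
    rw [← h.qm_ncard_image hx Set.inter_subset_left, ← h2, FischerM22.adj_ncard S h1]
  · rw [← h.qm_ncard_image hx (Set.inter_subset_left.trans Set.inter_subset_left),
      ← h.qm_common_image hx ha hb]
    exact FischerM22.common_ncard S (h.qm_adj_image hx ha).1 ⟨(h.qm_adj_image hx hb).1,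
      fun e => hne (h.qm_injOn hx hb ha e).symm, (h.qm_commute_iff hx ha hb).2 hc⟩
  · rw [← h.qm_ncard_image hx (Set.inter_subset_left.trans Set.inter_subset_left),
      ← h.qm_common_image hx ha hb]
    exact FischerM22.common_card S (h.qm_adj_image hx ha).1 (h.qm_adj_image hx hb).1
      fun e => hc ((h.qm_commute_iff hx ha hb).1 e)

end Central

/-- Charts back along a map injective on a closed set. -/
theorem Chart3.pullBack {H : Type*} [Group H] {Y : Set G} {n : ℕ}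
    {Q : QuadraticForm (ZMod 3) (Fin n → ZMod 3)} {c : ZMod 3} {ψ : (Fin n → ZMod 3) → H} (f : G → H)
    (hch : Chart3 (f '' Y) Q c ψ) (hinj : Set.InjOn f Y) (hclosed : ∀ a ∈ Y, ∀ b ∈ Y, a * b * a ∈ Y)
    (hcomm : ∀ a ∈ Y, ∀ b ∈ Y, (Commute (f a) (f b) ↔ Commute a b))
    (hconj : ∀ a ∈ Y, ∀ b ∈ Y, f (a * b * a) = f a * f b * f a) :
    ∃ φ : (Fin n → ZMod 3) → G, Chart3 Y Q c φ := by
  have : Nonempty G := ⟨1⟩
  set g := Function.invFunOn f Y
  have hleft : ∀ a ∈ Y, g (f a) = a := fun a ha => hinj.leftInvOn_invFunOn ha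
  refine ⟨_, hch.push g ?_ ?_ ?_ ?_⟩
  · rintro _ ⟨a, ha, rfl⟩ _ ⟨b, hb, rfl⟩ e
    rw [hleft a ha, hleft b hb] at e
    rw [e]
  · ext a
    exact ⟨by rintro ⟨_, ⟨b, hb, rfl⟩, rfl⟩; rwa [hleft b hb], fun ha => ⟨f a, ⟨a, ha, rfl⟩, hleft a ha⟩⟩
  · rintro _ ⟨a, ha, rfl⟩ _ ⟨b, hb, rfl⟩
    rw [hleft a ha, hleft b hb, hcomm a ha b hb]
  · rintro _ ⟨a, ha, rfl⟩ _ ⟨b, hb, rfl⟩
    rw [hleft a ha, hleft b hb, ← hconj a ha b hb, hleft _ (hclosed a ha b hb)]

/-- The members near `x` commuting with two non-commuting ones near `x`. -/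
theorem local_chart22 (h : Central D) (hx : x ∈ D) (h22 : IsOfTypeM22 (LocQ D x) (locQSet D x))
    {a b : G} (ha : a ∈ adj D x) (hb : b ∈ adj D x) (hab : ¬ Commute a b) :
    ∃ (Q : QuadraticForm (ZMod 3) (Fin 6 → ZMod 3)) (c : ZMod 3) (ψ : (Fin 6 → ZMod 3) → G),
      Chart3 {y | y ∈ adj D x ∧ Commute a y ∧ Commute b y} Q c ψ ∧ polarGramDet ⇑Q = 1 := by
  have S := h.setup22 hx h22
  obtain ⟨h1, -⟩ := h.qm_adj_image hx ha
  obtain ⟨h2, -⟩ := h.qm_adj_image hx hb
  obtain ⟨F, _, _, pt, hU⟩ := exists_chartU_of_setup S h1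
  obtain ⟨Q, c, ψ, hψ, hd⟩ := common_chart22 (h.base_local hx) (h.conn_local hx) h1 hU h1 h2
    fun e => hab ((h.qm_commute_iff hx ha hb).1 e)
  set Y := {y | y ∈ adj D x ∧ Commute a y ∧ Commute b y}
  have hY : adj D x ∩ adj D a ∩ adj D b = Y := by
    ext y
    constructor
    · rintro ⟨⟨hy, h1⟩, h2⟩
      exact ⟨hy, h1.2.2, h2.2.2⟩
    · rintro ⟨hy, h1, h2⟩
      exact ⟨⟨hy, hy.1, fun e => hab (e ▸ h2).symm, h1⟩, hy.1, fun e => hab (e ▸ h1), h2⟩
  rw [h.qm_common_image hx ha hb, hY] at hψ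
  obtain ⟨φ, hφ⟩ := Chart3.pullBack (qm D x) hψ ((h.qm_injOn hx).mono fun y hy => hy.1)
    (fun p hp q hq => ⟨adj_conj_mem h.toBase hp.1 hq.1, (hp.2.1.mul_right hq.2.1).mul_right hp.2.1,
      (hp.2.2.mul_right hq.2.2).mul_right hp.2.2⟩)
    (fun p hp q hq => h.qm_commute_iff hx hp.1 hq.1) fun p hp q hq => by
      rw [qm_mul (mul_mem (mem_loc_of_adj hp.1) (mem_loc_of_adj hq.1)) (mem_loc_of_adj hp.1),
        qm_mul (mem_loc_of_adj hp.1) (mem_loc_of_adj hq.1)]
  exact ⟨Q, c, φ, hφ, hd⟩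

/-- The common neighbours of two non-commuting members, for a local group of type M(22). -/
theorem common_chart23 (h : Central D) (hx : x ∈ D) (h22 : IsOfTypeM22 (LocQ D x) (locQSet D x))
    {a b : G} (ha : a ∈ D) (hb : b ∈ D) (hab : ¬ Commute a b) :
    ∃ (Q : QuadraticForm (ZMod 3) (Fin 7 → ZMod 3)) (c : ZMod 3) (ψ : (Fin 7 → ZMod 3) → G),
      Chart3 (common D a b) Q c ψ ∧ polarGramDet ⇑Q = -c := by
  have L := h.counts22 hx h22
  obtain ⟨hconnM, -, -⟩ := L.connected ha hb hab bound_m22 (by norm_num)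
  have loc : ∀ v ∈ common D a b, ∃ (Q : QuadraticForm (ZMod 3) (Fin 6 → ZMod 3)) (c : ZMod 3)
      (ψ : (Fin 6 → ZMod 3) → G), Chart3 (adj (common D a b) v) Q c ψ ∧ polarGramDet ⇑Q = 1 := by
    intro v hv
    obtain ⟨g, rfl⟩ := class_conj h.cls hx hv.1.1
    obtain ⟨ha', hb', hab', himg⟩ := image_common_adj h.toBase g ha hb hv hab
    obtain ⟨Q, c, ψ, hψ, hd⟩ := local_chart22 h hx h22 ha' hb' hab'
    exact ⟨Q, c, _, himg ▸ hψ.map_conj g, hd⟩
  obtain ⟨v, hv⟩ := h.toBase.common_nonempty h.conn ha hb hab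
  have hM : LocO3 (common D a b) 6 :=
    { set := ⟨fun p hp => h.set.1 p hp.1.1, fun p hp q hq => h.set.2 p hp.1.1 q hq.1.1⟩
      closed := common_closed h.set h.conj
      conn := hconnM
      ne := ⟨v, hv⟩
      five := by norm_num
      loc := fun w hw => by
        obtain ⟨Q, c, ψ, hψ, -⟩ := loc w hw
        exact ⟨Q, c, ψ, hψ⟩ }
  obtain ⟨Q, c, ψ, hψ, hd⟩ := loc v hv
  obtain ⟨Q', ψ', hψ', hd'⟩ := hM.recognise hv hψ
  exact ⟨Q', c, ψ', hψ', by rw [hd', hd]; linear_combination c * three_z3⟩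

/-- A local group of type M(22) gives type M(23). -/
theorem type23_of_local (h : Central D) (hx : x ∈ D) (h22 : IsOfTypeM22 (LocQ D x) (locQSet D x)) :
    IsOfTypeM23 G D := by
  obtain ⟨z, hz, hxz⟩ := h.toBase.two_of_adj hx
  obtain ⟨Q, c, ψ, hψ, hd⟩ := common_chart23 h hx h22 hx hz hxz
  exact ⟨h.center, x, hx, z, hz, hxz, h22, c, hψ.c_ne,
    hψ.projRefl (fun a ha => mul_self h.set ha.1.1) hd⟩

end Cfsg.Agent.FischerMain
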