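/-
The step from a local group of type M(23) to type M(24).

Main results (namespace `Cfsg.Agent.FischerMain`):
* `Central.central_local23`, `local_chart23` : charts of dimension seven near a member;
* `bound_m23`, `PartO3.common23`, `not_connected_common23` : the common neighbours of a non-commuting pair have
  several components;
* `component_eight` : a component is the set of points of a space of dimension eight;
* `type24_of_local`.
-/
import Cfsg.Agent.Lib.FischerMain.MChain.Type23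
import Cfsg.Agent.Lib.FischerMain.MChain.LocalQuot
import Cfsg.Agent.Lib.FischerMain.MChain.Parts
import Cfsg.Agent.Lib.FischerMain.MChain.Eight
import Cfsg.Agent.Lib.FischerMain.MChain.NoM24
import Cfsg.Agent.Lib.FischerM23.Total
import Cfsg.Agent.Lib.ThreeTrans.Disconnected.Main

set_option autoImplicit false

namespace Cfsg.Agent.FischerMain

open Cfsg Cfsg.Agent.ThreeTransRank Cfsg.Agent.ThreeTrans
open Cfsg.Agent.FischerM23 (qm qm_mul mem_loc_of_adj)

variable {G : Type*} [Group G] [Finite G] {D : Set G} {x : G}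

/-- A local group of type M(23) satisfies the hypotheses of the library on such groups. -/
theorem setup23_local (h : Central D) (hx : x ∈ D) (h23 : IsOfTypeM23 (LocQ D x) (locQSet D x)) :
    FischerM23.Fi23Setup (locQSet D x) :=
  ⟨(h.base_local hx).cls, (h.base_local hx).cores, h.conn_local hx, h23⟩

/-- Its class has central local cores. -/
theorem Central.central_local23 (h : Central D) (hx : x ∈ D) (h23 : IsOfTypeM23 (LocQ D x) (locQSet D x)) :
    Central (locQSet D x) where
  toBase := h.base_local hx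
  conn := h.conn_local hx
  ne _ hq := (setup23_local h hx h23).adj_nonempty hq
  loc _ hq := (setup23_local h hx h23).loc_cores hq

/-- The members near `x` commuting with two non-commuting ones near `x`. -/
theorem local_chart23 (h : Central D) (hx : x ∈ D) (h23 : IsOfTypeM23 (LocQ D x) (locQSet D x))
    {a b : G} (ha : a ∈ adj D x) (hb : b ∈ adj D x) (hab : ¬ Commute a b) :
    ∃ (Q : QuadraticForm (ZMod 3) (Fin 7 → ZMod 3)) (c : ZMod 3) (ψ : (Fin 7 → ZMod 3) → G),
      Chart3 {y | y ∈ adj D x ∧ Commute a y ∧ Commute b y} Q c ψ ∧ polarGramDet ⇑Q = -c := by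
  obtain ⟨h1, -⟩ := h.qm_adj_image hx ha
  obtain ⟨h2, -⟩ := h.qm_adj_image hx hb
  obtain ⟨Q, c, ψ, hψ, hd⟩ := common_chart23 (h.central_local23 hx h23) h1
    ((setup23_local h hx h23).localSetup h1).type22 h1 h2 fun e => hab ((h.qm_commute_iff hx ha hb).1 e)
  set Y := {y | y ∈ adj D x ∧ Commute a y ∧ Commute b y}
  have hY : adj D x ∩ adj D a ∩ adj D b = Y := by
    ext y
    exact ⟨fun hy => ⟨hy.1.1, hy.1.2.2.2, hy.2.2.2⟩, fun ⟨hy, h1, h2⟩ =>
      ⟨⟨hy, hy.1, fun e => hab (e ▸ h2).symm, h1⟩, hy.1, fun e => hab (e ▸ h1), h2⟩⟩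
  rw [h.qm_common_image hx ha hb, hY] at hψ
  obtain ⟨φ, hφ⟩ := Chart3.pullBack (qm D x) hψ ((h.qm_injOn hx).mono fun y hy => hy.1)
    (fun p hp q hq => ⟨adj_conj_mem h.toBase hp.1 hq.1, (hp.2.1.mul_right hq.2.1).mul_right hp.2.1,
      (hp.2.2.mul_right hq.2.2).mul_right hp.2.2⟩)
    (fun p hp q hq => h.qm_commute_iff hx hp.1 hq.1) fun p hp q hq => by
      rw [qm_mul (mul_mem (mem_loc_of_adj hp.1) (mem_loc_of_adj hq.1)) (mem_loc_of_adj hp.1),
        qm_mul (mem_loc_of_adj hp.1) (mem_loc_of_adj hq.1)]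
  exact ⟨Q, c, φ, hφ, hd⟩

/-- The charts near the common neighbours of a non-commuting pair. -/
theorem loc23 (h : Central D) (hx : x ∈ D) (h23 : IsOfTypeM23 (LocQ D x) (locQSet D x))
    {a b : G} (ha : a ∈ D) (hb : b ∈ D) (hab : ¬ Commute a b) {v : G} (hv : v ∈ common D a b) :
    ∃ (Q : QuadraticForm (ZMod 3) (Fin 7 → ZMod 3)) (c : ZMod 3) (ψ : (Fin 7 → ZMod 3) → G),
      Chart3 (adj (common D a b) v) Q c ψ ∧ polarGramDet ⇑Q = -c := by
  obtain ⟨g, rfl⟩ := class_conj h.cls hx hv.1.1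
  obtain ⟨ha', hb', hab', himg⟩ := image_common_adj h.toBase g ha hb hv hab
  obtain ⟨Q, c, ψ, hψ, hd⟩ := local_chart23 h hx h23 ha' hb' hab'
  exact ⟨Q, c, _, himg ▸ hψ.map_conj g, hd⟩

/-- The common neighbours of a non-commuting pair are locally charts. -/
theorem PartO3.common23 (h : Central D) (hx : x ∈ D) (h23 : IsOfTypeM23 (LocQ D x) (locQSet D x))
    {a b : G} (ha : a ∈ D) (hb : b ∈ D) (hab : ¬ Commute a b) : PartO3 (common D a b) 7 where
  set := ⟨fun p hp => h.set.1 p hp.1.1, fun p hp q hq => h.set.2 p hp.1.1 q hq.1.1⟩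
  closed := common_closed h.set h.conj
  stable g hg y hy := by
    have hcomm : Commute g a ∧ Commute g b := by
      induction hg using Subgroup.closure_induction with
      | mem w hw => exact ⟨hw.1.2.2.symm, hw.2.2.2.symm⟩
      | one => exact ⟨Commute.one_left a, Commute.one_left b⟩
      | mul u w _ _ hu hw => exact ⟨hu.1.mul_left hw.1, hu.2.mul_left hw.2⟩
      | inv u _ hu => exact ⟨hu.1.inv_left, hu.2.inv_left⟩
    have := (conj_mem_common_iff h.conj g (a := a) (b := b)).2 hy
    rwa [hcomm.1.eq, mul_inv_cancel_right, hcomm.2.eq, mul_inv_cancel_right] at this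
  five := by norm_num
  loc v hv := by
    obtain ⟨Q, c, ψ, hψ, -⟩ := loc23 h hx h23 ha hb hab hv
    exact ⟨Q, c, ψ, hψ⟩

/-- A component is a chart of dimension eight, discriminant one, with 1080 members. -/
theorem component_eight (h : Central D) (hx : x ∈ D) (h23 : IsOfTypeM23 (LocQ D x) (locQSet D x))
    {a b : G} (ha : a ∈ D) (hb : b ∈ D) (hab : ¬ Commute a b) {v : G} (hv : v ∈ common D a b) :
    ∃ (Q : QuadraticForm (ZMod 3) (Fin 8 → ZMod 3)) (c : ZMod 3) (ψ : (Fin 8 → ZMod 3) → G),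
      Chart3 (comp (common D a b) v) Q c ψ ∧ polarGramDet ⇑Q = 1 ∧
        (comp (common D a b) v).ncard = 1080 := by
  have hC := (PartO3.common23 h hx h23 ha hb hab).comp_locO3 hv
  obtain ⟨Q, c, ψ, hψ, hd⟩ := loc23 h hx h23 ha hb hab hv
  rw [← adj_comp (self_mem_comp hv)] at hψ
  obtain ⟨Q', ψ', hψ', hd'⟩ := hC.recognise (self_mem_comp hv) hψ
  have hd1 : polarGramDet ⇑Q' = 1 := by
    rw [hd', hd]
    linear_combination (-2 : ZMod 3) * sq_z3 hψ.c_ne - three_z3
  exact ⟨Q', c, ψ', hψ', hd1, hψ'.ncard_eight hd1⟩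

/-- The bound. -/
theorem bound_m23 : ∀ N : ℤ,
    (((3510 : ℕ) : ℤ) - (351 : ℕ)) ^ 2 * N ≤ (((31671 : ℕ) : ℤ) - N) * (((3510 : ℕ) : ℤ)
      + (351 : ℕ) * (693 : ℕ) - (351 : ℕ) - 2 * ((351 : ℕ) : ℤ) ^ 2 + N * (351 : ℕ)) →
    N ≤ 3240 := by
  intro N h
  norm_num at h ⊢
  by_contra hlt
  nlinarith

/-- The counts. -/
theorem counts_m23 (h : Central D) (hx : x ∈ D) (h23 : IsOfTypeM23 (LocQ D x) (locQSet D x)) :
    LocalCounts D 31671 3510 693 351 :=
  have S := setup23_local h hx h23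
  h.localCounts hx (FischerM23.class_ncard S) (fun _ hq => FischerM23.adj_ncard S hq)
    (fun _ hq _ hr => FischerM23.common_ncard S hq hr)
    fun _ hq _ hr hc => FischerM23.common_card S hq hr hc

/-- At most 3240 common neighbours. -/
theorem common_le23 (h : Central D) (hx : x ∈ D) (h23 : IsOfTypeM23 (LocQ D x) (locQSet D x))
    {a b : G} (ha : a ∈ D) (hb : b ∈ D) (hab : ¬ Commute a b) : (common D a b).ncard ≤ 3240 := by
  rcases (common D a b).eq_empty_or_nonempty with e | hne
  · simp [e]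
  obtain ⟨-, h1⟩ := (counts_m23 h hx h23).closed_bound ha hb hab subset_rfl hne fun _ _ _ hr _ => hr
  exact_mod_cast bound_m23 _ h1

/-- The common neighbours have several components. -/
theorem not_connected_common23 (h : Central D) (hx : x ∈ D) (h23 : IsOfTypeM23 (LocQ D x) (locQSet D x))
    {z : G} (hz : z ∈ D) (hxz : ¬ Commute x z) : ¬ ConnectedComm (common D x z) := by
  intro hcon
  have L := counts_m23 h hx h23
  obtain ⟨v, hv⟩ := h.toBase.common_nonempty h.conn hx hz hxz
  obtain ⟨-, -, -, -, -, hcard⟩ := component_eight h hx h23 hx hz hxz hv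
  rw [show comp (common D x z) v = common D x z from
    Set.Subset.antisymm comp_subset fun w hw => ⟨hw, hcon v hv w hw⟩] at hcard
  have hpos : 0 < srgDisc 31671 3510 1080 := by decide +kernel
  obtain ⟨l, hl, hs⟩ := h.toBase.srg h.conn hx ⟨hz, hxz⟩ (L.deg x hx) (L.edge x hx) hcard hpos
  obtain rfl : l = 825792 := by omega
  rcases srg_root 2455 (by decide +kernel) hs with e | ⟨e, -⟩ <;> revert e <;> decide +kernel

/-- The three parts exhaust the members. -/
theorem part_eq_of_le {H : Type*} [Group H] [Finite H] {E : Set H} {L : Subgroup H} (T : Disconn.Tri E L)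
    {d : H} (hd : d ∈ E) {C : Set H} (hC : C ⊆ Disconn.part E L d) (hle : E.ncard ≤ 3 * C.ncard) :
    Disconn.part E L d = C := by
  obtain ⟨e, he, hde⟩ := T.out d hd
  have hs := T.set
  have hded : d * e * d ∈ E := by simpa [inv_eq hs hd] using T.conjD d he
  have hnc : ¬ Commute d e := fun hc => hde (T.cong d hd e he hc)
  have hcard : ∀ f ∈ E, (Disconn.part E L f).ncard = (Disconn.part E L d).ncard := by
    intro f hf
    obtain ⟨g, rfl⟩ := class_conj T.cls hd hf
    rw [← Set.ncard_image_of_injective (Disconn.part E L d) (MulAut.conj g).injective]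
    congr 1
    ext w
    constructor
    · rintro ⟨hw, hwL⟩
      refine ⟨g⁻¹ * w * g, ⟨by simpa using T.conjD g⁻¹ hw, ?_⟩, by simp [mul_assoc]⟩
      rw [show d⁻¹ * (g⁻¹ * w * g) = g⁻¹ * ((g * d * g⁻¹)⁻¹ * w) * g⁻¹⁻¹ by group]
      exact T.conjL hwL g⁻¹
    · rintro ⟨u, hu, rfl⟩
      refine ⟨T.conjD g hu.1, ?_⟩
      rw [MulAut.conj_apply, show (g * d * g⁻¹)⁻¹ * (g * u * g⁻¹) = g * (d⁻¹ * u) * g⁻¹ by group]
      exact T.conjL hu.2 g
  have hdisj : ∀ p q : H, p⁻¹ * q ∉ L → Disjoint (Disconn.part E L p) (Disconn.part E L q) :=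
    fun p q hpq => Set.disjoint_left.2 fun w hp hq => hpq (by
      simpa [mul_assoc] using L.mul_mem hp.2 (L.inv_mem hq.2))
  have hdd : d⁻¹ * (d * e * d) ∉ L := fun hc => hde (by
    have hdi := inv_eq hs hd
    have := T.conjL hc d
    simpa [mul_assoc, hdi, mul_self hs hd, mul_self_cancel hs hd] using this)
  have hee : e⁻¹ * (d * e * d) ∉ L := fun hc => hde (by
    have h3 : (e * d) ^ 3 = 1 := pow_three_of_not_commute hs he hd fun hc' => hnc hc'.symm
    rw [inv_eq hs he] at hc
    have h2 : (e * d) ^ 2 ∈ L := by simpa [pow_two, mul_assoc] using hc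
    have h1 : e * d ∈ L := by
      have := L.inv_mem h2
      rwa [inv_eq_of_mul_eq_one_left (show (e * d) * (e * d) ^ 2 = 1 by rw [← pow_succ', h3])] at this
    simpa [inv_eq hs hd, mul_assoc, mul_self hs hd, mul_self_cancel hs hd] using T.conjL h1 d)
  have hsub : Disconn.part E L d ∪ Disconn.part E L e ∪ Disconn.part E L (d * e * d) ⊆ E := by
    rintro w ((hw | hw) | hw) <;> exact hw.1
  have h6 := Set.ncard_le_ncard hsub (Set.toFinite _)
  rw [Set.ncard_union_eq (Set.disjoint_union_left.2 ⟨hdisj _ _ hdd, hdisj _ _ hee⟩) (Set.toFinite _) (Set.toFinite _),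
    Set.ncard_union_eq (hdisj _ _ hde) (Set.toFinite _) (Set.toFinite _), hcard e he, hcard _ hded] at h6
  exact (Set.eq_of_subset_of_ncard_le hC (by omega) (Set.toFinite _)).symm

/-- The group on the common neighbours: the layer and its quotient. -/
theorem layer23 (h : Central D) (hx : x ∈ D) (h23 : IsOfTypeM23 (LocQ D x) (locQSet D x))
    {z : G} (hz : z ∈ D) (hxz : ¬ Commute x z) :
    ∃ (N : Subgroup (GenQ (common D x z))) (_ : N.Normal),
      Nonempty (↥N ≃* POmega (ZMod 3) (quadFormPlus 4 (ZMod 3))) ∧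
        Nonempty (GenQ (common D x z) ⧸ N ≃* Equiv.Perm (Fin 3)) := by
  classical
  set M := common D x z with hM
  have hP := PartO3.common23 h hx h23 hx hz hxz
  have hdisc := not_connected_common23 h hx h23 hz hxz
  obtain ⟨v, hv⟩ := h.toBase.common_nonempty h.conn hx hz hxz
  obtain ⟨hcl, hZ, hp2, hp3, hncon⟩ := hP.disconn hdisc ⟨v, hv⟩
  obtain ⟨L, T, -⟩ := Disconn.exists_tri hcl hZ hp2 hp3 hncon
  have hn : L.Normal := T.normal
  have hd : gq M v ∈ genQSet M := gq_image.subset ⟨v, hv, rfl⟩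
  obtain ⟨Q, c, ψ, hψ, hdet, hcard⟩ := component_eight h hx h23 hx hz hxz hv
  set C := comp M v with hCdef
  have hCM : C ⊆ M := comp_subset
  have hinj := (hP.gq_inj hdisc).mono hCM
  have hpart : gq M '' C ⊆ Disconn.part (genQSet M) L (gq M v) := by
    rintro _ ⟨w, hw, rfl⟩
    refine ⟨gq_image.subset ⟨w, hw.1, rfl⟩, ?_⟩
    have hpath := hw.2
    clear hw
    induction hpath with
    | refl => simp
    | @tail p q _ hpq ih =>
      have hc := T.cong _ (gq_image.subset ⟨p, hpq.1, rfl⟩) _ (gq_image.subset ⟨q, hpq.2.1, rfl⟩)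
        ((hP.gq_comm hdisc hpq.1 hpq.2.1).2 hpq.2.2)
      rw [show (gq M v)⁻¹ * gq M q = ((gq M v)⁻¹ * gq M p) * ((gq M p)⁻¹ * gq M q) by group]
      exact L.mul_mem ih hc
  have hcC : (gq M '' C).ncard = 1080 := by rw [hinj.ncard_image, hcard]
  have hpeq : Disconn.part (genQSet M) L (gq M v) = gq M '' C := by
    refine part_eq_of_le T hd hpart ?_
    rw [hcC, ← gq_image, (hP.gq_inj hdisc).ncard_image]
    exact common_le23 h hx h23 hx hz hxz
  have htop : Subgroup.closure (gq M '' C) = T.top hd := by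
    refine le_antisymm ((Subgroup.closure_le _).2 fun w hw => T.part_le_top hd (hpeq.ge hw)) ?_
    calc T.top hd = (Subgroup.closure (T.topD hd)).map (T.top hd).subtype := by
          rw [T.closure_topD hd, ← MonoidHom.range_eq_map, Subgroup.range_subtype]
      _ ≤ Subgroup.closure (gq M '' C) := by
          rw [MonoidHom.map_closure]
          refine Subgroup.closure_mono ?_
          rintro _ ⟨w, hw, rfl⟩
          exact hpeq.le (T.topD_part hd hw)
  have hch : Chart3 (gq M '' C) Q c (gq M ∘ ψ) :=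
    hψ.push _ hinj rfl (fun p hp q hq => hP.gq_comm hdisc (hCM hp) (hCM hq))
      fun p hp q hq => LocO3.gq_conj (hCM hp) (hCM hq)
  obtain ⟨Q', hQ', hd', ⟨e⟩⟩ := hch.projRefl (fun a ha => mul_self hcl.1 (hpart ha).1) hdet
  have hZtop : Subgroup.center ↥(Subgroup.closure (gq M '' C)) = ⊥ := by
    rw [eq_bot_iff]
    intro w hw
    have hw' : (⟨w, htop.le w.2⟩ : ↥(T.top hd)) ∈ Subgroup.center ↥(T.top hd) :=
      Subgroup.mem_center_iff.2 fun u => Subtype.ext
        (congrArg Subtype.val (Subgroup.mem_center_iff.1 hw ⟨u, htop.ge u.2⟩) :)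
    rw [T.top_center hd, Subgroup.mem_bot] at hw'
    exact Subtype.ext (congrArg Subtype.val hw' :)
  let eT : ↥(T.top hd) ≃* ↥(reflectionSubgroup (⇑Q') c) ⧸ Subgroup.center ↥(reflectionSubgroup (⇑Q') c) :=
    ((MulEquiv.subgroupCongr htop.symm).trans
      ((QuotientGroup.quotientMulEquivOfEq hZtop).trans QuotientGroup.quotientBot).symm).trans e
  have hna : ∃ p q : ↥(commutator ↥(T.top hd)), p * q ≠ q * p := by
    obtain ⟨p, q, hpq⟩ := T.nonab
    exact ⟨(T.topEquiv hd).symm p, (T.topEquiv hd).symm q,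
      fun he => hpq ((T.topEquiv hd).symm.injective (by rwa [map_mul, map_mul]))⟩
  have := T.top_simple hd
  obtain ⟨w, hw, ho⟩ := eight_frame hQ' hψ.c_ne hd'
  obtain ⟨eP⟩ := Disconn.pomega_of_refl hna hQ' (Fintype.card_fin 8) hψ.c_ne eT w hw ho
  have : Fact (Nat.Prime 3) := ⟨Nat.prime_three⟩
  obtain ⟨eout⟩ := Triality.out_eight_odd (F := ZMod 3) (p := 3) (f := 1) le_rfl (by simp [ZMod.card])
    (by norm_num)
  exact ⟨L, hn, ⟨(T.topEquiv hd).symm.trans eP⟩,
    T.quotient_of_out ((T.topEquiv hd).symm.trans eP) ((MonoidHom.fst _ _).comp eout.toMonoidHom)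
      (Disconn.fst_comp_injective eout)⟩

/-- A local group of type M(23) gives type M(24). -/
theorem type24_of_local (h : Central D) (hx : x ∈ D) (h23 : IsOfTypeM23 (LocQ D x) (locQSet D x)) :
    IsOfTypeM24 G D := by
  obtain ⟨z, hz, hxz⟩ := h.toBase.two_of_adj hx
  exact ⟨h.center, x, hx, z, hz, hxz, h23, layer23 h hx h23 hz hxz⟩

end Cfsg.Agent.FischerMain
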